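import Mathlib
import Cfsg.Prelude.Def_Solvable
import Cfsg.Prelude.Def_CaseTheorems
import Cfsg.Agent.Lib.Cores

/-!
# Involutions whose centralizer is dihedral of order 8: local facts

`z` an involution of the finite group `G` with `C_G(z) ≅ D₈`.
-/

set_option autoImplicit false
set_option linter.unusedSectionVars false
set_option linter.style.haveILetI false

namespace Cfsg.Agent.H270.D8Cent

open Subgroup

theorem dih_center : ∀ a : DihedralGroup 4, (∀ b, a * b = b * a) →
    a = 1 ∨ a = DihedralGroup.r 2 := by decide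

theorem dih_comm : ∃ a b : DihedralGroup 4, a * b * a⁻¹ * b⁻¹ = DihedralGroup.r 2 := by decide

theorem dih_r2_ne : (DihedralGroup.r 2 : DihedralGroup 4) ≠ 1 := by decide

theorem dih_normal : ∀ a : DihedralGroup 4, a ≠ 1 →
    a = DihedralGroup.r 2 ∨ ∃ b, a * b * a⁻¹ * b⁻¹ = DihedralGroup.r 2 := by decide

theorem dih_gen : ∀ a : DihedralGroup 4, ∃ b c : DihedralGroup 4, b * b = 1 ∧ c * c = 1 ∧
    a = b * c := by decide

variable {G : Type*} [Group G]

/-- The situation: `C_G(z)` is dihedral of order 8. -/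
structure Hyp (z : G) : Prop where
  ord : orderOf z = 2
  iso : Nonempty (↥(centralizer ({z} : Set G)) ≃* DihedralGroup 4)

namespace Hyp

variable {z : G} (h : Hyp z)

include h

theorem sq : z * z = 1 := by
  have := pow_orderOf_eq_one z
  rw [h.ord, pow_two] at this
  exact this

theorem ne : z ≠ 1 := by
  intro h1
  have := h.ord
  rw [h1, orderOf_one] at this
  omega

theorem self_mem : z ∈ centralizer ({z} : Set G) := mem_centralizer_singleton_iff.2 rfl

theorem card : Nat.card ↥(centralizer ({z} : Set G)) = 8 := by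
  obtain ⟨e⟩ := h.iso
  rw [Nat.card_congr e.toEquiv, DihedralGroup.nat_card]

/-- The image of `z` is the central involution of the dihedral group. -/
theorem map_z (e : ↥(centralizer ({z} : Set G)) ≃* DihedralGroup 4) :
    e ⟨z, h.self_mem⟩ = DihedralGroup.r 2 := by
  rcases dih_center (e ⟨z, h.self_mem⟩) (fun b => by
    obtain ⟨x, rfl⟩ := e.surjective b
    rw [← map_mul, ← map_mul]
    congr 1
    apply Subtype.ext
    exact (mem_centralizer_singleton_iff.1 x.2).symm) with h1 | h1
  · exfalso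
    rw [map_eq_one_iff e e.injective] at h1
    exact h.ne (congrArg Subtype.val h1)
  · exact h1

/-- The centre of `C_G(z)` is `{1, z}`. -/
theorem eq_of_central {x : G} (hx : x ∈ centralizer ({z} : Set G))
    (hc : ∀ y ∈ centralizer ({z} : Set G), x * y = y * x) (hx1 : x ≠ 1) : x = z := by
  obtain ⟨e⟩ := h.iso
  rcases dih_center (e ⟨x, hx⟩) (fun b => by
    obtain ⟨y, rfl⟩ := e.surjective b
    rw [← map_mul, ← map_mul]
    congr 1
    apply Subtype.ext
    exact hc y y.2) with h1 | h1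
  · exfalso
    rw [map_eq_one_iff e e.injective] at h1
    exact hx1 (congrArg Subtype.val h1)
  · rw [← h.map_z e] at h1
    exact congrArg Subtype.val (e.injective h1)

/-- `z` is a commutator in `C_G(z)`. -/
theorem exists_comm : ∃ x ∈ centralizer ({z} : Set G), ∃ y ∈ centralizer ({z} : Set G),
    x * y * x⁻¹ * y⁻¹ = z := by
  obtain ⟨e⟩ := h.iso
  obtain ⟨a, b, hab⟩ := dih_comm
  refine ⟨e.symm a, (e.symm a).2, e.symm b, (e.symm b).2, ?_⟩
  have : e.symm a * e.symm b * (e.symm a)⁻¹ * (e.symm b)⁻¹ = ⟨z, h.self_mem⟩ := by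
    apply e.injective
    rw [h.map_z e]
    simp [hab]
  exact congrArg Subtype.val this

/-- A nontrivial element of `C_G(z)` is `z` or has `z` as a commutator. -/
theorem eq_or_comm {x : G} (hx : x ∈ centralizer ({z} : Set G)) (hx1 : x ≠ 1) :
    x = z ∨ ∃ y ∈ centralizer ({z} : Set G), x * y * x⁻¹ * y⁻¹ = z := by
  obtain ⟨e⟩ := h.iso
  rcases dih_normal (e ⟨x, hx⟩) (fun h1 => by
    rw [map_eq_one_iff e e.injective] at h1
    exact hx1 (congrArg Subtype.val h1)) with h1 | ⟨b, hb⟩
  · left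
    rw [← h.map_z e] at h1
    exact congrArg Subtype.val (e.injective h1)
  · right
    refine ⟨e.symm b, (e.symm b).2, ?_⟩
    have : (⟨x, hx⟩ : ↥(centralizer ({z} : Set G))) * e.symm b * (⟨x, hx⟩)⁻¹ * (e.symm b)⁻¹ =
        ⟨z, h.self_mem⟩ := by
      apply e.injective
      rw [h.map_z e]
      simp only [map_mul, map_inv, e.apply_symm_apply]
      exact hb
    exact congrArg Subtype.val this

/-- Every element of `C_G(z)` is a product of two elements of order at most two. -/
theorem exists_gen {x : G} (hx : x ∈ centralizer ({z} : Set G)) :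
    ∃ b c : G, b * b = 1 ∧ c * c = 1 ∧ x = b * c := by
  obtain ⟨e⟩ := h.iso
  obtain ⟨b, c, hb, hc, hbc⟩ := dih_gen (e ⟨x, hx⟩)
  refine ⟨e.symm b, e.symm c, ?_, ?_, ?_⟩
  · have : e.symm b * e.symm b = 1 := by rw [← map_mul, hb, map_one]
    exact congrArg Subtype.val this
  · have : e.symm c * e.symm c = 1 := by rw [← map_mul, hc, map_one]
    exact congrArg Subtype.val this
  · have : (⟨x, hx⟩ : ↥(centralizer ({z} : Set G))) = e.symm b * e.symm c := by
      apply e.injective
      rw [map_mul, e.apply_symm_apply, e.apply_symm_apply, hbc]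
    exact congrArg Subtype.val this

variable [Finite G]

theorem isPGroup : IsPGroup 2 ↥(centralizer ({z} : Set G)) := by
  apply IsPGroup.of_card (n := 3)
  rw [h.card]; norm_num

/-- `C_G(z)` is a Sylow 2-subgroup. -/
theorem exists_sylow : ∃ P : Sylow 2 G, (P : Subgroup G) = centralizer ({z} : Set G) := by
  haveI : Fact (Nat.Prime 2) := ⟨Nat.prime_two⟩
  obtain ⟨P, hP⟩ := h.isPGroup.exists_le_sylow
  refine ⟨P, le_antisymm ?_ hP⟩
  have hnt : Nontrivial (P : Subgroup G) := by
    rw [Subgroup.nontrivial_iff_exists_ne_one]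
    exact ⟨z, hP h.self_mem, h.ne⟩
  obtain ⟨c, hc⟩ := (nontrivial_iff_exists_ne_one (center (P : Subgroup G))).1
    P.isPGroup'.center_nontrivial
  obtain ⟨hcc, hc1⟩ := hc
  have hcom : ∀ y ∈ (P : Subgroup G), (c : G) * y = y * c := by
    intro y hy
    have := (mem_center_iff.1 hcc) ⟨y, hy⟩
    exact (congrArg Subtype.val this).symm
  have hcz : (c : G) = z := by
    apply h.eq_of_central
    · rw [mem_centralizer_singleton_iff]
      exact hcom z (hP h.self_mem)
    · exact fun y hy => hcom y (hP hy)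
    · intro h1
      exact hc1 (Subtype.ext h1)
  intro y hy
  rw [mem_centralizer_singleton_iff]
  have := hcom y hy
  rw [hcz] at this
  exact this.symm

/-- `C_G(z)` is its own normalizer. -/
theorem normalizer_eq : normalizer (centralizer ({z} : Set G) : Set G) =
    centralizer ({z} : Set G) := by
  apply le_antisymm _ le_normalizer
  intro n hn
  have h1 : n * z * n⁻¹ = z := by
    apply h.eq_of_central
    · exact (mem_normalizer_iff.1 hn z).1 h.self_mem
    · intro y hy
      have h2 : n⁻¹ * y * n ∈ centralizer ({z} : Set G) := by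
        have := (mem_normalizer_iff.1 (inv_mem hn) y).1 hy
        simpa using this
      have h3 := mem_centralizer_singleton_iff.1 h2
      calc n * z * n⁻¹ * y = n * (z * (n⁻¹ * y * n)) * n⁻¹ := by group
        _ = n * ((n⁻¹ * y * n) * z) * n⁻¹ := by rw [h3]
        _ = y * (n * z * n⁻¹) := by group
    · intro h2
      apply h.ne
      have : z = n⁻¹ * (n * z * n⁻¹) * n := by group
      rw [this, h2]; group
  rw [mem_centralizer_singleton_iff]
  calc n * z = n * z * n⁻¹ * n := by group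
    _ = z * n := by rw [h1]

theorem eq_top_of_le {N : Subgroup G} (hN : N.Normal) (hle : centralizer ({z} : Set G) ≤ N) :
    N = ⊤ := by
  haveI : Fact (Nat.Prime 2) := ⟨Nat.prime_two⟩
  obtain ⟨P, hP⟩ := h.exists_sylow
  have h1 := Sylow.normalizer_sup_eq_top' P (hP ▸ hle)
  have h2 : normalizer ((P : Subgroup G) : Set G) = centralizer ({z} : Set G) := by
    rw [hP]; exact h.normalizer_eq
  have h3 : normalizer ((P : Subgroup G) : Set G) ⊔ N = ⊤ := h1
  rw [h2, sup_eq_right.2 hle] at h3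
  exact h3

/-- A normal subgroup of even order contains `z`. -/
theorem mem_of_even {N : Subgroup G} (hN : N.Normal) (hev : 2 ∣ Nat.card N) : z ∈ N := by
  haveI : Fact (Nat.Prime 2) := ⟨Nat.prime_two⟩
  obtain ⟨t, ht⟩ := exists_prime_orderOf_dvd_card' 2 hev
  have ht' : orderOf (t : G) = 2 := by rw [orderOf_coe]; exact ht
  obtain ⟨P, hP⟩ := h.exists_sylow
  have hp : IsPGroup 2 ↥(zpowers (t : G)) := by
    apply IsPGroup.of_card (n := 1)
    rw [Nat.card_zpowers, ht', pow_one]
  obtain ⟨Q, hQ⟩ := hp.exists_le_sylow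
  obtain ⟨g, hg⟩ := MulAction.exists_smul_eq G Q P
  have hs : g * t * g⁻¹ ∈ centralizer ({z} : Set G) := by
    rw [← hP, ← hg]
    exact Subgroup.smul_mem_pointwise_smul _ (MulAut.conj g) _ (hQ (mem_zpowers _))
  have hsN : g * t * g⁻¹ ∈ N := hN.conj_mem _ t.2 _
  have hs1 : g * t * g⁻¹ ≠ 1 := by
    intro h1
    have : (t : G) = 1 := by
      have h2 : (t : G) = g⁻¹ * (g * t * g⁻¹) * g := by group
      rw [h2, h1]; group
    rw [this, orderOf_one] at ht'
    omega
  rcases h.eq_or_comm hs hs1 with h1 | ⟨y, hy, h1⟩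
  · rw [← h1]; exact hsN
  · rw [← h1]
    have : g * t * g⁻¹ * y * (g * t * g⁻¹)⁻¹ * y⁻¹ =
        (g * t * g⁻¹) * (y * (g * t * g⁻¹)⁻¹ * y⁻¹) := by group
    rw [this]
    exact N.mul_mem hsN (hN.conj_mem _ (N.inv_mem hsN) _)

/-- If `O(G) ≠ 1` then `G = C_G(z) O(G)`. -/
theorem sup_oddCore (hO : Cfsg.oddCore G ≠ ⊥) : centralizer ({z} : Set G) ⊔ Cfsg.oddCore G = ⊤ := by
  haveI : Fact (Nat.Prime 2) := ⟨Nat.prime_two⟩
  have hn : (Cfsg.oddCore G).Normal := Cfsg.Agent.Lib.Cores.pPrimeCore_normal 2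
  have hodd : (Nat.card (Cfsg.oddCore G)).Coprime 2 := Cfsg.Agent.Lib.Cores.pPrimeCore_coprime 2
  set K := Cfsg.oddCore G with hK
  have hcop : (Nat.card K).Coprime (Nat.card ↥(centralizer ({z} : Set G))) := by
    rw [h.card]
    exact Nat.Coprime.pow_right 3 hodd
  have hinf : K ⊓ centralizer ({z} : Set G) = ⊥ := (disjoint_of_coprime_natCard hcop).eq_bot
  -- `z` inverts `K`
  let φ : K →* K :=
    { toFun := fun k => ⟨z * k * z⁻¹, hn.conj_mem k k.2 z⟩
      map_one' := by apply Subtype.ext; simp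
      map_mul' := by intro a b; apply Subtype.ext; simp [mul_assoc] }
  have hφ : ∀ k : K, ((φ k : K) : G) = z * k * z⁻¹ := fun k => rfl
  have hzinv : z⁻¹ = z := inv_eq_of_mul_eq_one_right h.sq
  have hfp : MonoidHom.FixedPointFree φ := by
    intro k hk
    have h1 : z * k * z⁻¹ = k := congrArg Subtype.val hk
    have h2 : (k : G) ∈ K ⊓ centralizer ({z} : Set G) := by
      refine ⟨k.2, mem_centralizer_singleton_iff.2 ?_⟩
      calc (k : G) * z = (z * k * z⁻¹) * z := by rw [h1]
        _ = z * k := by group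
    rw [hinf, mem_bot] at h2
    exact Subtype.ext h2
  have hinvol : Function.Involutive φ := by
    intro k
    apply Subtype.ext
    rw [hφ, hφ, hzinv]
    calc z * (z * k * z) * z = (z * z) * k * (z * z) := by group
      _ = k := by rw [h.sq]; simp
  have hinv := hfp.coe_eq_inv_of_involutive hinvol
  have hzk : ∀ k ∈ K, z * k * z⁻¹ = k⁻¹ := by
    intro k hk
    have h1 := congrFun hinv ⟨k, hk⟩
    exact congrArg Subtype.val h1
  have hcomm : ∀ a ∈ K, ∀ b ∈ K, a * b = b * a := by
    intro a ha b hb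
    have h1 := hfp.commute_all_of_involutive hinvol ⟨a, ha⟩ ⟨b, hb⟩
    exact congrArg Subtype.val h1.eq
  -- the centralizer of `K` has odd order
  have hCn : (centralizer (K : Set G)).Normal := inferInstance
  have hCodd : (Nat.card ↥(centralizer (K : Set G))).Coprime 2 := by
    rw [Nat.coprime_comm, Nat.Prime.coprime_iff_not_dvd Nat.prime_two]
    intro hev
    have hz := h.mem_of_even hCn hev
    apply hO
    rw [eq_bot_iff]
    intro k hk
    have h1 := hzk k hk
    have h2 := mem_centralizer_iff.1 hz k hk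
    have h3 : k = k⁻¹ := by
      rw [← h1, ← h2]; group
    have h4 : k ^ 2 = 1 := by
      rw [pow_two]
      calc k * k = k * k⁻¹ := by rw [← h3]
        _ = 1 := mul_inv_cancel k
    have h5 : orderOf k ∣ Nat.card K := by
      have := orderOf_dvd_natCard (⟨k, hk⟩ : K)
      rwa [← orderOf_coe] at this
    have h6 : orderOf k ∣ 2 := orderOf_dvd_of_pow_eq_one h4
    have h7 : orderOf k = 1 := Nat.eq_one_of_dvd_coprimes hodd h5 h6
    rw [mem_bot]
    exact orderOf_eq_one_iff.1 h7
  have hCle : centralizer (K : Set G) ≤ K := Cfsg.Agent.Lib.Cores.le_pPrimeCore hCn hCodd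
  have hzg : ∀ g : G, g * z * g⁻¹ * z⁻¹ ∈ K := by
    intro g
    apply hCle
    rw [mem_centralizer_iff]
    intro k hk
    have h1 : ∀ g : G, ∀ k ∈ K, (g * z * g⁻¹) * k * (g * z * g⁻¹)⁻¹ = k⁻¹ := by
      intro g k hk
      have h2 := hzk (g⁻¹ * k * g) (by simpa using hn.conj_mem k hk g⁻¹)
      calc (g * z * g⁻¹) * k * (g * z * g⁻¹)⁻¹ = g * (z * (g⁻¹ * k * g) * z⁻¹) * g⁻¹ := by group
        _ = k⁻¹ := by rw [h2]; group
    have h3 := h1 g k⁻¹ (K.inv_mem hk)
    have h4 := hzk k hk
    have h5 : (g * z * g⁻¹ * z⁻¹) * k * (g * z * g⁻¹ * z⁻¹)⁻¹ = k := by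
      have h6 : z⁻¹ * k * z = k⁻¹ := by
        rw [hzinv]; rw [hzinv] at h4; exact h4
      calc (g * z * g⁻¹ * z⁻¹) * k * (g * z * g⁻¹ * z⁻¹)⁻¹
          = (g * z * g⁻¹) * (z⁻¹ * k * z) * (g * z * g⁻¹)⁻¹ := by group
        _ = k := by rw [h6, h3, inv_inv]
    calc k * (g * z * g⁻¹ * z⁻¹)
        = ((g * z * g⁻¹ * z⁻¹) * k * (g * z * g⁻¹ * z⁻¹)⁻¹) * (g * z * g⁻¹ * z⁻¹) := by rw [h5]
      _ = g * z * g⁻¹ * z⁻¹ * k := by group
  rw [eq_top_iff]
  intro g _
  -- a square root
  obtain ⟨m, hm⟩ : ∃ m, Nat.card K = 2 * m + 1 := by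
    have : Odd (Nat.card K) := by
      rw [Nat.coprime_comm] at hodd
      exact Nat.Coprime.odd_of_left hodd
    exact this
  set k := g * z * g⁻¹ * z⁻¹ with hk
  have hkK : k ∈ K := hzg g
  have hkpow : k ^ Nat.card K = 1 := by
    have := pow_card_eq_one' (x := (⟨k, hkK⟩ : K))
    exact congrArg Subtype.val this
  set s := k ^ (m + 1) with hs
  have hsK : s ∈ K := K.pow_mem hkK _
  have hss : s * s = k := by
    rw [hs, ← pow_add]
    have : m + 1 + (m + 1) = Nat.card K + 1 := by omega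
    rw [this, pow_succ, hkpow, one_mul]
  have hsz : s * z * s⁻¹ = g * z * g⁻¹ := by
    have h1 := hzk s⁻¹ (K.inv_mem hsK)
    rw [inv_inv] at h1
    have h2 : z * s⁻¹ = s * z := by
      calc z * s⁻¹ = (z * s⁻¹ * z⁻¹) * z := by group
        _ = s * z := by rw [h1]
    calc s * z * s⁻¹ = s * (z * s⁻¹) := by group
      _ = (s * s) * z := by rw [h2]; group
      _ = g * z * g⁻¹ := by rw [hss, hk]; group
  have hc : s⁻¹ * g ∈ centralizer ({z} : Set G) := by
    rw [mem_centralizer_singleton_iff]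
    calc s⁻¹ * g * z = s⁻¹ * (g * z * g⁻¹) * g := by group
      _ = s⁻¹ * (s * z * s⁻¹) * g := by rw [hsz]
      _ = z * (s⁻¹ * g) := by group
  have : g = s * (s⁻¹ * g) := by group
  rw [this]
  exact mul_mem (le_sup_right (a := centralizer ({z} : Set G)) hsK)
    (le_sup_left (b := K) hc)

end Hyp

end Cfsg.Agent.H270.D8Cent
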