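import Mathlib

/-!
# A normal subgroup of `SL(2, F)`, `F` finite of characteristic two, containing an involution is everything
-/

set_option autoImplicit false

namespace Cfsg.Agent.H270.SLTwoEven

open Matrix

variable {F : Type*} [Field F]

/-- the matrix `(a, b; c, d)` -/
def mk (a b c d : F) (h : a * d - b * c = 1) : SpecialLinearGroup (Fin 2) F :=
  ⟨!![a, b; c, d], by rw [det_fin_two_of]; exact h⟩

theorem exists_mk (g : SpecialLinearGroup (Fin 2) F) : ∃ a b c d, ∃ h : a * d - b * c = 1, g = mk a b c d h := by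
  refine ⟨g.1 0 0, g.1 0 1, g.1 1 0, g.1 1 1, ?_, ?_⟩
  · have := g.2
    rwa [det_fin_two] at this
  · apply Subtype.ext
    ext i j
    fin_cases i <;> fin_cases j <;> rfl

theorem mk_mul {a b c d a' b' c' d' : F} (h : a * d - b * c = 1) (h' : a' * d' - b' * c' = 1) :
    mk a b c d h * mk a' b' c' d' h' =
      mk (a * a' + b * c') (a * b' + b * d') (c * a' + d * c') (c * b' + d * d')
        (by linear_combination (a' * d' - b' * c') * h + h') := by
  apply Subtype.ext
  show !![a, b; c, d] * !![a', b'; c', d'] = _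
  rw [mul_fin_two]; rfl

theorem mk_congr {a b c d a' b' c' d' : F} {h : a * d - b * c = 1} {h' : a' * d' - b' * c' = 1}
    (ha : a = a') (hb : b = b') (hc : c = c') (hd : d = d') : mk a b c d h = mk a' b' c' d' h' := by
  subst ha hb hc hd; rfl

theorem mk_inj {a b c d a' b' c' d' : F} {h : a * d - b * c = 1} {h' : a' * d' - b' * c' = 1}
    (he : mk a b c d h = mk a' b' c' d' h') : a = a' ∧ b = b' ∧ c = c' ∧ d = d' := by
  have := congrArg Subtype.val he
  refine ⟨congrFun (congrFun this 0) 0, congrFun (congrFun this 0) 1, congrFun (congrFun this 1) 0,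
    congrFun (congrFun this 1) 1⟩

theorem one_eq : (1 : SpecialLinearGroup (Fin 2) F) = mk 1 0 0 1 (by ring) := by
  apply Subtype.ext
  ext i j
  fin_cases i <;> fin_cases j <;> rfl

/-- upper unitriangular -/
abbrev up (s : F) : SpecialLinearGroup (Fin 2) F := mk 1 s 0 1 (by ring)

/-- lower unitriangular -/
abbrev lo (s : F) : SpecialLinearGroup (Fin 2) F := mk 1 0 s 1 (by ring)

theorem mem_of_ne {N : Subgroup (SpecialLinearGroup (Fin 2) F)} (h1 : ∀ s, up s ∈ N) (h2 : ∀ s, lo s ∈ N)
    {a b c d : F} (h : a * d - b * c = 1) (hc : c ≠ 0) : mk a b c d h ∈ N := by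
  have h3 : mk a b c d h = up ((a - 1) / c) * lo c * up ((d - 1) / c) := by
    rw [mk_mul, mk_mul]
    apply mk_congr
    · field_simp; ring
    · field_simp; linear_combination -h
    · field_simp; ring
    · field_simp; ring
  rw [h3]
  exact N.mul_mem (N.mul_mem (h1 _) (h2 _)) (h1 _)

theorem eq_top_of_up_lo {N : Subgroup (SpecialLinearGroup (Fin 2) F)} (h1 : ∀ s, up s ∈ N)
    (h2 : ∀ s, lo s ∈ N) : N = ⊤ := by
  rw [eq_top_iff]
  intro g _
  obtain ⟨a, b, c, d, h, rfl⟩ := exists_mk g
  by_cases hc : c = 0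
  · have hd : d ≠ 0 := by
      rintro rfl
      rw [hc] at h
      simp at h
    have h3 : mk a b c d h * lo 1 ∈ N := by
      rw [mk_mul]
      apply mem_of_ne h1 h2
      rw [hc]; simpa using hd
    exact (N.mul_mem_cancel_right (h2 1)).1 h3
  · exact mem_of_ne h1 h2 h hc

theorem exists_up [CharP F 2] (g : SpecialLinearGroup (Fin 2) F) (hg : g * g = 1) (hg1 : g ≠ 1) :
    ∃ (h : SpecialLinearGroup (Fin 2) F) (s : F), s ≠ 0 ∧ h * g * h⁻¹ = up s := by
  have h2 : (2 : F) = 0 := CharTwo.two_eq_zero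
  obtain ⟨a, b, c, d, h, rfl⟩ := exists_mk g
  rw [mk_mul, one_eq] at hg
  obtain ⟨e00, e01, e10, e11⟩ := mk_inj hg
  by_cases hc : c = 0
  · subst hc
    have ha : (a - 1) * (a - 1) = 0 := by linear_combination e00 - (a - 1) * h2
    have ha1 : a = 1 := sub_eq_zero.1 (mul_self_eq_zero.1 ha)
    subst ha1
    have hd1 : d = 1 := by linear_combination h
    subst hd1
    refine ⟨1, b, ?_, by group⟩
    rintro rfl
    exact hg1 one_eq.symm
  · have htr : a + d = 0 := by
      have : c * (a + d) = 0 := by linear_combination e10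
      exact (mul_eq_zero.1 this).resolve_left hc
    have hd : d = a := by linear_combination htr - a * h2
    subst hd
    refine ⟨mk 0 1 1 ((d + 1) / c) (by linear_combination -h2), c, hc, ?_⟩
    rw [mul_inv_eq_iff_eq_mul, mk_mul, mk_mul]
    apply mk_congr
    · ring
    · field_simp; linear_combination -h2
    · field_simp; linear_combination d * h2
    · field_simp; linear_combination -h + (d * d) * h2 - h2

theorem eq_top_of_normal [Finite F] [CharP F 2] (N : Subgroup (SpecialLinearGroup (Fin 2) F)) (hN : N.Normal)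
    (g : SpecialLinearGroup (Fin 2) F) (hgN : g ∈ N) (hg : g * g = 1) (hg1 : g ≠ 1) : N = ⊤ := by
  obtain ⟨h, s, hs, hh⟩ := exists_up g hg hg1
  have h2 : (2 : F) = 0 := CharTwo.two_eq_zero
  have h1 : up s ∈ N := by rw [← hh]; exact hN.conj_mem g hgN h
  have hup : ∀ t, up t ∈ N := by
    intro t
    by_cases ht : t = 0
    · subst ht
      have h3 : (up 0 : SpecialLinearGroup (Fin 2) F) = 1 := one_eq.symm
      rw [h3]; exact N.one_mem
    obtain ⟨r, hr⟩ : ∃ r : F, t / s = r * r :=
      FiniteField.isSquare_of_char_two (F := F)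
        (CharP.ringChar_of_prime_eq_zero Nat.prime_two (by exact_mod_cast h2)) (t / s)
    have hr0 : r ≠ 0 := by
      rintro rfl
      rw [mul_zero, div_eq_zero_iff] at hr
      exact hr.elim ht hs
    have h3 := hN.conj_mem _ h1 (mk r 0 0 r⁻¹ (by simp [hr0]))
    have h4 : mk r 0 0 r⁻¹ (by simp [hr0]) * up s * (mk r 0 0 r⁻¹ (by simp [hr0]))⁻¹ = up t := by
      rw [mul_inv_eq_iff_eq_mul, mk_mul, mk_mul]
      have ht' : t = r * r * s := by rw [← hr]; field_simp
      apply mk_congr
      · ring
      · rw [ht']; field_simp; ring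
      · ring
      · ring
    rwa [h4] at h3
  refine eq_top_of_up_lo hup fun t => ?_
  have h3 := hN.conj_mem _ (hup t) (mk 0 1 1 0 (by linear_combination -h2))
  have h4 : mk 0 1 1 0 (by linear_combination -h2) * up t * (mk 0 1 1 0 (by linear_combination -h2))⁻¹ = lo t := by
    rw [mul_inv_eq_iff_eq_mul, mk_mul, mk_mul]
    apply mk_congr <;> ring
  rwa [h4] at h3

end Cfsg.Agent.H270.SLTwoEven
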