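import Cfsg.Agent.H270.FusMod
import Cfsg.Agent.H270.SLTwoEven
import Cfsg.Agent.ClassTwoFusion.OneEdge

/-!
# 2-fusion modular groups have no edges

In a 2-fusion modular group the strongly closed subgroup of class two of an edge gives two conjugate involutions in a
2-group which do not commute.
-/

set_option autoImplicit false
set_option linter.unusedSectionVars false
set_option linter.style.haveILetI false

namespace Cfsg.Agent.H270.FusEdge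

open Subgroup Cfsg.Agent.H270.FusMod
open Cfsg.Agent.TwoFusion.ClosedFam
open Cfsg.Agent.ClassTwoFusion.RelAlperin Cfsg.Agent.ClassTwoFusion.OneEdge

variable {G : Type*} [Group G] [Finite G]

theorem comm_of_sq {E : Subgroup G} (h : ∀ x ∈ E, x * x = 1) {x y : G} (hx : x ∈ E) (hy : y ∈ E) :
    x * y = y * x := by
  have hx2 := h x hx
  have hy2 := h y hy
  have hxy := h _ (E.mul_mem hx hy)
  calc x * y = x * ((x * y) * (x * y)) * y := by rw [hxy, mul_one]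
    _ = (x * x) * y * x * (y * y) := by simp only [mul_assoc]
    _ = y * x := by rw [hx2, hy2]; simp

/-- Let `A = E E'` be an `𝒜`-Sylow subgroup of `X = ⟨𝒜 ∩ N(E)⟩`, `z ∈ E ∩ E'` not centralized by `X`. Then some
`X`-conjugate of `z` is not in `E'`. -/
theorem exists_conj_notMem {𝒜 : Set G} (h𝒜 : IsClosedFam 𝒜) {A E E' : Subgroup G} (hsup : E ⊔ E' = A)
    (hsyl : IsSyl 𝒜 (XG 𝒜 E) A) (sq : ∀ x ∈ E, x * x = 1) (sq' : ∀ x ∈ E', x * x = 1) {z : G} (hz : z ∈ E)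
    (hzX : ¬ ∀ x ∈ XG 𝒜 E, x * z = z * x) : ∃ g ∈ XG 𝒜 E, g * z * g⁻¹ ∉ E' := by
  by_contra hno
  push Not at hno
  apply hzX
  have hXN : XG 𝒜 E ≤ normalizer (E : Set G) := fam_le _ _
  have hcA : ∀ g ∈ XG 𝒜 E, ∀ a ∈ A, a * (g * z * g⁻¹) = (g * z * g⁻¹) * a := by
    intro g hg
    have h1 : g * z * g⁻¹ ∈ E := (mem_normalizer_iff.1 (hXN hg) z).1 hz
    have h2 := hno g hg
    have h3 : A ≤ centralizer ({g * z * g⁻¹} : Set G) := by
      rw [← hsup, sup_le_iff]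
      constructor
      · intro a ha
        rw [mem_centralizer_singleton_iff]
        exact comm_of_sq sq ha h1
      · intro a ha
        rw [mem_centralizer_singleton_iff]
        exact comm_of_sq sq' ha h2
    intro a ha
    exact mem_centralizer_singleton_iff.1 (h3 ha)
  have h4 : XG 𝒜 E ≤ centralizer ({z} : Set G) := by
    show fam 𝒜 (normalizer (E : Set G)) ≤ _
    rw [fam_le_iff]
    intro x hx hxN
    have hxX : x ∈ XG 𝒜 E := mem_fam hx hxN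
    obtain ⟨g, hg, hle⟩ := hsyl.conj (zpowers x) (by rw [zpowers_le]; exact hxX) (h𝒜.isPGroup_zpowers hx)
      (fun y hy => h𝒜.zpowers_subset hx hy)
    have h5 : g * x * g⁻¹ ∈ A := hle ⟨x, mem_zpowers x, rfl⟩
    have h6 := hcA g hg _ h5
    rw [mem_centralizer_singleton_iff]
    have h7 : g * (x * z) * g⁻¹ = g * (z * x) * g⁻¹ := by
      calc g * (x * z) * g⁻¹ = (g * x * g⁻¹) * (g * z * g⁻¹) := by group
        _ = (g * z * g⁻¹) * (g * x * g⁻¹) := h6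
        _ = g * (z * x) * g⁻¹ := by group
    exact mul_left_cancel (mul_right_cancel h7)
  intro x hx
  exact mem_centralizer_singleton_iff.1 (h4 hx)

theorem proper_of_card {q : ℕ} (hq : 2 ≤ q) {C Z : Subgroup G} (h : q * Nat.card C = Nat.card Z) : ¬ Z ≤ C := by
  intro hle
  have h1 := Subgroup.card_le_of_le hle
  have h2 : 0 < Nat.card C := Nat.card_pos
  nlinarith

/-- **No edges in 2-fusion modular groups.** -/
theorem false_of_edge (h : FM G) {𝒜 : Set G} (h𝒜 : IsClosedFam 𝒜) {F : Type} [Field F] [Fintype F] [CharP F 2]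
    {A E₁ E₂ : Subgroup G} (D : FullEdge F 𝒜 A E₁ E₂) : False := by
  have hq : 2 ≤ Nat.card F := Finite.one_lt_card
  have hE₁A : E₁ ≤ A := D.sup ▸ le_sup_left
  have hE₂A : E₂ ≤ A := D.sup ▸ le_sup_right
  have hAX₁ : A ≤ XG 𝒜 E₁ := fun x hx => mem_fam (D.syl.sub x hx) (D.nor₁ hx)
  have hAX₂ : A ≤ XG 𝒜 E₂ := fun x hx => mem_fam (D.syl.sub x hx) (D.nor₂ hx)
  have hs : ∀ E : Subgroup G, A ≤ XG 𝒜 E → IsSyl 𝒜 (XG 𝒜 E) A := by
    intro E hAE
    obtain ⟨R, hAR, hR⟩ := exists_isSyl h𝒜 hAE D.syl.two D.syl.sub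
    have h1 : A = R := eq_of_le_of_card_ge hAR (D.syl.card_le le_top hR.two hR.sub)
    rw [h1]; exact hR
  have hs₁ := hs E₁ hAX₁
  have hs₂ := hs E₂ hAX₂
  -- an element of `Z` centralized neither by `X₁` nor by `X₂`
  obtain ⟨z, hz, hz1, hz2⟩ : ∃ z ∈ E₁ ⊓ E₂, z ∉ centralizer (XG 𝒜 E₁ : Set G) ∧
      z ∉ centralizer (XG 𝒜 E₂ : Set G) := by
    by_contra hno
    push Not at hno
    have h1 := proper_of_card hq D.cardC₁
    have h2 := proper_of_card hq D.cardC₂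
    obtain ⟨a, ha, ha1⟩ := SetLike.not_le_iff_exists.1 h1
    obtain ⟨b, hb, hb1⟩ := SetLike.not_le_iff_exists.1 h2
    have ha1' : a ∉ centralizer (XG 𝒜 E₁ : Set G) := fun hh => ha1 ⟨ha.1, hh⟩
    have hb1' : b ∉ centralizer (XG 𝒜 E₂ : Set G) := fun hh => hb1 ⟨hb.2, hh⟩
    have ha2 := hno a ha ha1'
    have hb2 : b ∈ centralizer (XG 𝒜 E₁ : Set G) := by
      by_contra hh
      exact hb1' (hno b hb hh)
    have hab1 : a * b ∉ centralizer (XG 𝒜 E₁ : Set G) := fun hh => ha1' (by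
      have := mul_mem hh (inv_mem hb2)
      simpa [mul_assoc] using this)
    have hab2 := hno _ (mul_mem ha hb) hab1
    apply hb1'
    have := mul_mem (inv_mem ha2) hab2
    simpa [mul_assoc] using this
  have hz1' : ¬ ∀ x ∈ XG 𝒜 E₁, x * z = z * x := fun hh => hz1 (mem_centralizer_iff.2 hh)
  have hz2' : ¬ ∀ x ∈ XG 𝒜 E₂, x * z = z * x := fun hh => hz2 (mem_centralizer_iff.2 hh)
  have hX₁N : XG 𝒜 E₁ ≤ normalizer (E₁ : Set G) := fam_le _ _
  have hX₂N : XG 𝒜 E₂ ≤ normalizer (E₂ : Set G) := fam_le _ _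
  obtain ⟨k, hk, hkz⟩ := exists_conj_notMem h𝒜 (E := E₂) (E' := E₁) (by rw [sup_comm]; exact D.sup) hs₂ D.sq₂ D.sq₁
    hz.2 hz2'
  have hyE₂ : k * z * k⁻¹ ∈ E₂ := (mem_normalizer_iff.1 (hX₂N hk) z).1 hz.2
  obtain ⟨y, hy⟩ : ∃ y, y = k * z * k⁻¹ := ⟨_, rfl⟩
  rw [← hy] at hkz hyE₂
  have hyA : y ∈ A := hE₂A hyE₂
  have hzz : z * z = 1 := D.sq₁ z hz.1
  -- `y` commutes with the `X₁`-conjugates of `z`
  have hyc : ∀ g ∈ XG 𝒜 E₁, y * (g * z * g⁻¹) = (g * z * g⁻¹) * y := by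
    intro g hg
    have h1 : g * z * g⁻¹ ∈ A := hE₁A ((mem_normalizer_iff.1 (hX₁N hg) z).1 hz.1)
    have e : (g * k⁻¹) * y * (g * k⁻¹)⁻¹ = g * z * g⁻¹ := by rw [hy]; group
    have := h.comm D.syl.two hyA (g := g * k⁻¹) (by rw [e]; exact h1) (D.sq₂ y hyE₂)
    rwa [e] at this
  -- the centralizer of the conjugates of `z`
  let M : Subgroup ↥(XG 𝒜 E₁) :=
    { carrier := {m | ∀ g ∈ XG 𝒜 E₁, (m : G) * (g * z * g⁻¹) = (g * z * g⁻¹) * m}
      one_mem' := fun g _ => by simp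
      mul_mem' := by
        intro a b ha hb g hg
        show ((a : G) * b) * (g * z * g⁻¹) = (g * z * g⁻¹) * (a * b)
        rw [mul_assoc, hb g hg, ← mul_assoc, ha g hg, mul_assoc]
      inv_mem' := by
        intro a ha g hg
        show (a : G)⁻¹ * (g * z * g⁻¹) = (g * z * g⁻¹) * (a : G)⁻¹
        rw [inv_mul_eq_iff_eq_mul, ← mul_assoc, ha g hg, mul_inv_cancel_right] }
  have memM : ∀ m : ↥(XG 𝒜 E₁), m ∈ M ↔ ∀ g ∈ XG 𝒜 E₁, (m : G) * (g * z * g⁻¹) = (g * z * g⁻¹) * m :=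
    fun _ => Iff.rfl
  have hMn : M.Normal := by
    constructor
    intro m hm x
    rw [memM] at hm ⊢
    intro g hg
    have h1 := hm ((x : G)⁻¹ * g) (mul_mem (inv_mem x.2) hg)
    have e : ((x : G)⁻¹ * g) * z * ((x : G)⁻¹ * g)⁻¹ = (x : G)⁻¹ * (g * z * g⁻¹) * x := by group
    rw [e] at h1
    show ((x : G) * m * (x : G)⁻¹) * (g * z * g⁻¹) = (g * z * g⁻¹) * ((x : G) * m * (x : G)⁻¹)
    calc ((x : G) * m * (x : G)⁻¹) * (g * z * g⁻¹)
        = (x : G) * (m * ((x : G)⁻¹ * (g * z * g⁻¹) * x)) * (x : G)⁻¹ := by group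
      _ = (x : G) * (((x : G)⁻¹ * (g * z * g⁻¹) * x) * m) * (x : G)⁻¹ := by rw [h1]
      _ = (g * z * g⁻¹) * ((x : G) * m * (x : G)⁻¹) := by group
  have hyX : y ∈ XG 𝒜 E₁ := hAX₁ hyA
  have hyM : (⟨y, hyX⟩ : ↥(XG 𝒜 E₁)) ∈ M := (memM _).2 hyc
  have hφy : D.φ₁ ⟨y, hyX⟩ ≠ 1 := by
    intro h1
    exact hkz (D.cent₁ ⟨(D.ker₁ _).1 h1, hyA⟩)
  have hφyy : D.φ₁ ⟨y, hyX⟩ * D.φ₁ ⟨y, hyX⟩ = 1 := by
    rw [← map_mul]
    have : (⟨y, hyX⟩ : ↥(XG 𝒜 E₁)) * ⟨y, hyX⟩ = 1 := Subtype.ext (D.sq₂ y hyE₂)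
    rw [this, map_one]
  have htop : M.map D.φ₁ = ⊤ :=
    SLTwoEven.eq_top_of_normal _ (hMn.map D.φ₁ D.surj₁) _ (mem_map_of_mem D.φ₁ hyM) hφyy hφy
  apply hz1'
  intro x hx
  obtain ⟨m, hm, hmx⟩ : D.φ₁ ⟨x, hx⟩ ∈ M.map D.φ₁ := by rw [htop]; exact mem_top _
  have h1 : D.φ₁ (⟨x, hx⟩ * m⁻¹) = 1 := by rw [map_mul, map_inv, hmx, mul_inv_cancel]
  have h2 := mem_centralizer_iff.1 ((D.ker₁ _).1 h1) z hz.1
  have h3 : (m : G) * z = z * m := by
    have := (memM m).1 hm 1 (one_mem _)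
    simpa using this
  have h4 : z * (x * (m : G)⁻¹) = (x * (m : G)⁻¹) * z := h2
  calc x * z = (x * (m : G)⁻¹) * (m * z) := by group
    _ = (x * (m : G)⁻¹) * (z * m) := by rw [h3]
    _ = ((x * (m : G)⁻¹) * z) * m := by simp only [mul_assoc]
    _ = (z * (x * (m : G)⁻¹)) * m := by rw [h4]
    _ = z * x := by group

end Cfsg.Agent.H270.FusEdge
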