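import Cfsg.Agent.H270.FusOne
import Cfsg.Agent.H270.FusEdge

/-!
# 2-fusion modular simple groups have abelian Sylow 2-subgroups

from Goldschmidt's theorem on abelian strongly closed 2-subgroups and the theorem on minimal strongly closed
2-subgroups of class two.
-/

set_option autoImplicit false
set_option linter.unusedSectionVars false
set_option linter.style.haveILetI false

namespace Cfsg.Agent.H270.FusAsm

open Subgroup Cfsg.Agent.H270.FusMod
open scoped commutatorElement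
open Cfsg.Agent.TwoFusion.ClosedFam
open Cfsg.Agent.ClassTwoFusion.RelAlperin Cfsg.Agent.ClassTwoFusion.OneEdge

universe u

variable {G : Type u} [Group G]

/-- Goldschmidt's theorem S1169 for the group `G`. -/
def Gold (G : Type u) [Group G] : Prop :=
  ∀ (S : Sylow 2 G) (A : Subgroup G), A ≠ ⊥ → IsMulCommutative A → Cfsg.IsStronglyClosed A (S : Subgroup G) →
    IsMulCommutative (S : Subgroup G) ∨ ∃ H : Subgroup G, Cfsg.IsStronglyEmbedded H

/-- The theorem on minimal strongly closed subgroups of class two. -/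
def Full (G : Type u) [Group G] : Prop :=
  ∀ (𝒜 : Set G) (_ : IsClosedFam 𝒜) (S : Sylow 2 G),
    (∀ x ∈ fam 𝒜 (S : Subgroup G), ∀ y ∈ fam 𝒜 (S : Subgroup G), ∀ z ∈ fam 𝒜 (S : Subgroup G),
      Commute ⁅x, y⁆ z) →
    (∃ x ∈ fam 𝒜 (S : Subgroup G), ∃ y ∈ fam 𝒜 (S : Subgroup G), x * y ≠ y * x) →
    (∀ B ≤ fam 𝒜 (S : Subgroup G), Cfsg.IsStronglyClosed B (S : Subgroup G) →
      B = ⊥ ∨ B = fam 𝒜 (S : Subgroup G)) →
    ∃ (F : Type) (_ : Field F) (_ : Fintype F) (_ : CharP F 2) (E₁ E₂ : Subgroup G),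
      Nonempty (FullEdge F 𝒜 (fam 𝒜 (S : Subgroup G)) E₁ E₂)

theorem comm_sylow [Finite G] [IsSimpleGroup G] (hG : ¬ IsMulCommutative G) (hgold : Gold G) (hfull : Full G)
    (h : FM G) (S : Sylow 2 G) : ∀ a ∈ (S : Subgroup G), ∀ b ∈ (S : Subgroup G), a * b = b * a := by
  by_contra hSna
  have hS : IsPGroup 2 (S : Subgroup G) := S.2
  have hnoSE : ¬ ∃ H : Subgroup G, Cfsg.IsStronglyEmbedded H := by
    rintro ⟨H, hH⟩
    exact hSna (FusOne.comm_of_one_class hG h (fun a b ha hb =>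
      Cfsg.Agent.TwoFusion.StronglyEmbeddedBasic.isConj_of_involutions hH a b ha hb) S)
  have hab : ∀ B : Subgroup G, B ≠ ⊥ → IsMulCommutative B → ¬ Cfsg.IsStronglyClosed B (S : Subgroup G) := by
    intro B hB hBc hBS
    rcases hgold S B hB hBc hBS with hc | hH
    · exact hSna fun a ha b hb => congrArg Subtype.val (hc.is_comm.comm (⟨a, ha⟩ : (S : Subgroup G)) ⟨b, hb⟩)
    · exact hnoSE hH
  obtain ⟨A, hA⟩ : ∃ A, A = Om (S : Subgroup G) := ⟨_, rfl⟩
  have hAS : Cfsg.IsStronglyClosed A (S : Subgroup G) := hA ▸ h.om_stronglyClosed S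
  have hAbot : A ≠ ⊥ := by
    rintro rfl
    apply hSna
    have h1 : ∀ x ∈ (S : Subgroup G), x * x = 1 → x = 1 := by
      intro x hx hx2
      have : x ∈ Om (S : Subgroup G) := mem_om hx hx2
      rw [← hA, mem_bot] at this
      exact this
    have h2 := FusOne.sq_eq_one_of_pow_four hS (fun x hx hx4 => h1 _ (mul_mem hx hx) (by
      rw [← hx4]; simp [pow_succ, mul_assoc]))
    intro a ha b hb
    rw [h1 a ha (h2 a ha), h1 b hb (h2 b hb)]
  have hcl : ∀ x ∈ A, ∀ y ∈ A, ∀ z ∈ A, Commute ⁅x, y⁆ z := by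
    intro x hx y hy z hz
    rw [commutatorElement_def]
    rw [hA] at hx hy hz
    exact (h.om_comm_central hS hx hy z (om_le _ hz)).symm
  -- a minimal strongly closed subgroup
  obtain ⟨B, ⟨hBne, hBS, hBA⟩, hBmin⟩ : ∃ B : Subgroup G, (B ≠ ⊥ ∧ Cfsg.IsStronglyClosed B (S : Subgroup G) ∧ B ≤ A) ∧
      ∀ C : Subgroup G, (C ≠ ⊥ ∧ Cfsg.IsStronglyClosed C (S : Subgroup G) ∧ C ≤ A) → C ≤ B → B ≤ C := by
    obtain ⟨B, hB⟩ := Set.Finite.exists_minimal (Set.toFinite {B : Subgroup G | B ≠ ⊥ ∧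
      Cfsg.IsStronglyClosed B (S : Subgroup G) ∧ B ≤ A}) ⟨A, hAbot, hAS, le_rfl⟩
    exact ⟨B, hB.1, fun C hC hCB => hB.2 hC hCB⟩
  set 𝒜 : Set G := {x : G | ∃ g : G, g * x * g⁻¹ ∈ B} with h𝒜
  have hfam : IsClosedFam 𝒜 := isClosedFam_of_isStronglyClosed S B hBS
  have hfB : fam 𝒜 (S : Subgroup G) = B := by
    ext x
    rw [hfam.mem_fam_iff S.2]
    constructor
    · rintro ⟨⟨g, hg⟩, hxS⟩
      have := hBS.2 _ hg g⁻¹ (by
        have e : g⁻¹ * (g * x * g⁻¹) * g⁻¹⁻¹ = x := by group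
        rw [e]; exact hxS)
      have e : g⁻¹ * (g * x * g⁻¹) * g⁻¹⁻¹ = x := by group
      rwa [e] at this
    · intro hx
      exact ⟨⟨1, by simpa using hx⟩, hBS.1 hx⟩
  obtain ⟨F, i1, i2, i3, E₁, E₂, ⟨D⟩⟩ := hfull 𝒜 hfam S (by
      rw [hfB]
      intro x hx y hy z hz
      exact hcl x (hBA hx) y (hBA hy) z (hBA hz)) (by
      rw [hfB]
      by_contra hcon
      push Not at hcon
      exact hab B hBne ⟨⟨fun x y => Subtype.ext (hcon x x.2 y y.2)⟩⟩ hBS) (by
      rw [hfB]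
      intro C hCB hCS
      by_cases hC : C = ⊥
      · exact Or.inl hC
      · exact Or.inr (le_antisymm hCB (hBmin C ⟨hC, hCS, hCB.trans hBA⟩ hCB)))
  exact FusEdge.false_of_edge h hfam D

end Cfsg.Agent.H270.FusAsm
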