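import Mathlib
import Cfsg.Prelude.Def_TwoFusion
import Cfsg.Agent.Lib.GoldschmidtFusion

/-!
# 2-fusion modular groups: the subgroup generated by the involutions of a Sylow 2-subgroup

A finite group `G` is 2-fusion modular if for each 2-element `x` and each conjugate `y` of `x` such that
`⟨x, y⟩` is a 2-group, the index of `⟨x⟩` in `⟨x, y⟩` is 1 or 2.

* `om_stronglyClosed` : the subgroup `Om S` generated by the involutions of a Sylow 2-subgroup `S` is
  strongly closed in `S`;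
* `om_comm_central` : `[Om S, Om S] ≤ Z(S)`;
* `FM.isolated` : if `x` has order 4, then `x²` is the only conjugate of `x²` which commutes with `x`.
-/

set_option autoImplicit false
set_option linter.unusedSectionVars false
set_option linter.style.haveILetI false

namespace Cfsg.Agent.H270.FusMod

open Subgroup Cfsg.Agent.Lib.GoldschmidtFusion

/-- 2-fusion modular groups. -/
def FM (G : Type*) [Group G] : Prop :=
  ∀ (x g : G), (∃ a : ℕ, orderOf x = 2 ^ a) →
    IsPGroup 2 ↥(zpowers x ⊔ zpowers (g * x * g⁻¹)) →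
      (zpowers x).relIndex (zpowers x ⊔ zpowers (g * x * g⁻¹)) ∣ 2

variable {G : Type*} [Group G]

theorem card_mul_relIndex {A B : Subgroup G} (h : A ≤ B) :
    Nat.card A * A.relIndex B = Nat.card B := by
  have := relIndex_mul_relIndex (⊥ : Subgroup G) A B bot_le h
  simpa using this

theorem sq_mem_of_relIndex {A B : Subgroup G} (h : A.relIndex B ∣ 2) {b : G} (hb : b ∈ B) :
    b * b ∈ A := by
  rcases (Nat.dvd_prime Nat.prime_two).1 h with h1 | h1
  · rw [relIndex_eq_one] at h1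
    exact A.mul_mem (h1 hb) (h1 hb)
  · have := (A.subgroupOf B).sq_mem_of_index_two h1 ⟨b, hb⟩
    rw [mem_subgroupOf] at this
    simpa [pow_two] using this

theorem conj_mem_of_relIndex {A B : Subgroup G} (h : A.relIndex B ∣ 2) {a b : G}
    (ha : a ∈ A) (haB : a ∈ B) (hb : b ∈ B) : b * a * b⁻¹ ∈ A := by
  rcases (Nat.dvd_prime Nat.prime_two).1 h with h1 | h1
  · rw [relIndex_eq_one] at h1
    exact A.mul_mem (A.mul_mem (h1 hb) ha) (A.inv_mem (h1 hb))
  · have hn : (A.subgroupOf B).Normal := normal_of_index_eq_two h1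
    have := hn.conj_mem ⟨a, haB⟩ (mem_subgroupOf.2 ha) ⟨b, hb⟩
    exact mem_subgroupOf.1 this

variable [Finite G]

/-- Conjugate elements of order at most 2 in a common 2-group commute. -/
theorem FM.comm (h : FM G) {P : Subgroup G} (hP : IsPGroup 2 P) {x g : G} (hx : x ∈ P)
    (hxg : g * x * g⁻¹ ∈ P) (hx2 : x * x = 1) :
    x * (g * x * g⁻¹) = (g * x * g⁻¹) * x := by
  by_cases hx1 : x = 1
  · subst hx1; simp
  have hord : orderOf x = 2 := orderOf_eq_prime (by rw [pow_two]; exact hx2) hx1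
  have hle : zpowers x ⊔ zpowers (g * x * g⁻¹) ≤ P := by
    rw [sup_le_iff, zpowers_le, zpowers_le]
    exact ⟨hx, hxg⟩
  have h1 := h x g ⟨1, by rw [hord, pow_one]⟩ (hP.to_le hle)
  have h2 := conj_mem_of_relIndex h1 (mem_zpowers x) (mem_sup_left (mem_zpowers x))
    (mem_sup_right (mem_zpowers (g * x * g⁻¹)))
  obtain ⟨k, hk⟩ := mem_zpowers_iff.1 h2
  have h3 : x ^ k = 1 ∨ x ^ k = x := by
    rcases Int.even_or_odd' k with ⟨m, hm | hm⟩
    · left; rw [hm, zpow_mul, zpow_two, hx2, one_zpow]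
    · right; rw [hm, zpow_add, zpow_mul, zpow_two, hx2, one_zpow, one_mul, zpow_one]
  rcases h3 with h3 | h3
  · exfalso
    apply hx1
    rw [h3] at hk
    have : x = (g * x * g⁻¹)⁻¹ * ((g * x * g⁻¹) * x * (g * x * g⁻¹)⁻¹) * (g * x * g⁻¹) := by group
    rw [this, ← hk]; group
  · rw [h3] at hk
    calc x * (g * x * g⁻¹) = ((g * x * g⁻¹) * x * (g * x * g⁻¹)⁻¹) * (g * x * g⁻¹) := by rw [← hk]
      _ = (g * x * g⁻¹) * x := by group

/-- Conjugate elements of order at most 4 in a common 2-group have the same square. -/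
theorem FM.sq_eq (h : FM G) {P : Subgroup G} (hP : IsPGroup 2 P) {x g : G} (hx : x ∈ P)
    (hxg : g * x * g⁻¹ ∈ P) (hx4 : x ^ 4 = 1) :
    (g * x * g⁻¹) * (g * x * g⁻¹) = x * x := by
  by_cases hx2 : x * x = 1
  · rw [hx2]
    calc (g * x * g⁻¹) * (g * x * g⁻¹) = g * (x * x) * g⁻¹ := by group
      _ = 1 := by rw [hx2]; group
  have hord : orderOf x = 4 := by
    have : orderOf x = 2 ^ (1 + 1) := by
      apply orderOf_eq_prime_pow
      · rw [pow_one, pow_two]; exact hx2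
      · norm_num; exact hx4
    simpa using this
  set y := g * x * g⁻¹ with hy
  have hordy : orderOf y = 4 := by
    have : y = MulAut.conj g x := by simp [hy]
    rw [this, MulEquiv.orderOf_eq]; exact hord
  have hle : zpowers x ⊔ zpowers y ≤ P := by
    rw [sup_le_iff, zpowers_le, zpowers_le]
    exact ⟨hx, hxg⟩
  have h1 : (zpowers x).relIndex (zpowers x ⊔ zpowers y) ∣ 2 :=
    h x g ⟨2, by rw [hord]; norm_num⟩ (hP.to_le hle)
  have h2 : (zpowers y).relIndex (zpowers x ⊔ zpowers y) =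
      (zpowers x).relIndex (zpowers x ⊔ zpowers y) := by
    have h3 := card_mul_relIndex (le_sup_left : zpowers x ≤ zpowers x ⊔ zpowers y)
    have h4 := card_mul_relIndex (le_sup_right : zpowers y ≤ zpowers x ⊔ zpowers y)
    rw [Nat.card_zpowers, hord] at h3
    rw [Nat.card_zpowers, hordy] at h4
    omega
  have h5 : x * x ∈ zpowers y := sq_mem_of_relIndex (h2 ▸ h1) (mem_sup_left (mem_zpowers x))
  obtain ⟨k, hk⟩ := mem_zpowers_iff.1 h5
  have hy4 : y ^ (4 : ℤ) = 1 := by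
    have := pow_orderOf_eq_one y
    rw [hordy] at this
    exact_mod_cast this
  have hx4' : (x * x) * (x * x) = 1 := by
    rw [← hx4]; simp [pow_succ, mul_assoc]
  have hy2 : y * y ≠ 1 := by
    intro h6
    have : orderOf y ∣ 2 := orderOf_dvd_of_pow_eq_one (by rw [pow_two]; exact h6)
    rw [hordy] at this
    omega
  have hmod : y ^ k = y ^ (k % 4) := by
    conv_lhs => rw [← Int.emod_add_mul_ediv k 4]
    rw [zpow_add, zpow_mul, hy4, one_zpow, mul_one]
  rw [hmod] at hk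
  have hlt : k % 4 = 0 ∨ k % 4 = 1 ∨ k % 4 = 2 ∨ k % 4 = 3 := by omega
  rcases hlt with h6 | h6 | h6 | h6
  · rw [h6, zpow_zero] at hk
    exact absurd hk.symm hx2
  · rw [h6, zpow_one] at hk
    exact absurd (by rw [hk]; exact hx4') hy2
  · rw [h6, zpow_two] at hk
    exact hk
  · exfalso
    have h7 : y * y * y = x * x := by
      rw [← hk, h6]
      have : (3 : ℤ) = 1 + 1 + 1 := by norm_num
      rw [this, zpow_add, zpow_add, zpow_one]
    apply hy2
    have h8 : y * y * (y * y) = 1 := by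
      have : y ^ 4 = 1 := by exact_mod_cast hy4
      rw [← this]; simp [pow_succ, mul_assoc]
    calc y * y = (y * y) * (y * y * (y * y)) := by rw [h8, mul_one]
      _ = (y * y * y) * (y * y * y) := by simp only [mul_assoc]
      _ = 1 := by rw [h7, hx4']

/-- In a 2-subgroup the squares of the elements of order at most 4 are central. -/
theorem FM.sq_central (h : FM G) {P : Subgroup G} (hP : IsPGroup 2 P) {y : G} (hy : y ∈ P)
    (hy4 : y ^ 4 = 1) : ∀ g ∈ P, g * (y * y) = (y * y) * g := by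
  intro g hg
  have h1 := h.sq_eq hP hy (P.mul_mem (P.mul_mem hg hy) (P.inv_mem hg)) hy4
  calc g * (y * y) = ((g * y * g⁻¹) * (g * y * g⁻¹)) * g := by group
    _ = (y * y) * g := by rw [h1]

/-- In a 2-subgroup `[e, p]` is central of order at most 2 if `e² = 1` and `p⁴ = 1`. -/
theorem FM.comm_central (h : FM G) {P : Subgroup G} (hP : IsPGroup 2 P) {e p : G} (he : e ∈ P)
    (hp : p ∈ P) (he2 : e * e = 1) (hp4 : p ^ 4 = 1) :
    (p⁻¹ * e * p * e) * (p⁻¹ * e * p * e) = 1 ∧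
      ∀ g ∈ P, g * (p⁻¹ * e * p * e) = (p⁻¹ * e * p * e) * g := by
  have hc : e * (p⁻¹ * e * p) = (p⁻¹ * e * p) * e := by
    have := h.comm hP (x := e) (g := p⁻¹) he
      (P.mul_mem (P.mul_mem (P.inv_mem hp) he) (P.inv_mem (P.inv_mem hp))) he2
    simpa using this
  have ha2 : (p⁻¹ * e * p) * (p⁻¹ * e * p) = 1 := by
    calc (p⁻¹ * e * p) * (p⁻¹ * e * p) = p⁻¹ * (e * e) * p := by group
      _ = 1 := by rw [he2]; group
  set u := p⁻¹ * e * p * e with hu
  have hu2 : u * u = 1 := by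
    calc u * u = (p⁻¹ * e * p) * (e * (p⁻¹ * e * p)) * e := by rw [hu]; group
      _ = (p⁻¹ * e * p) * ((p⁻¹ * e * p) * e) * e := by rw [hc]
      _ = ((p⁻¹ * e * p) * (p⁻¹ * e * p)) * (e * e) := by group
      _ = 1 := by rw [ha2, he2, mul_one]
  have hpc := h.sq_central hP hp hp4
  have huP : u ∈ P := P.mul_mem (P.mul_mem (P.mul_mem (P.inv_mem hp) he) hp) he
  have hpe : (p * e) * (p * e) = (p * p) * u := by rw [hu]; group
  have hpe4 : (p * e) ^ 4 = 1 := by
    have : (p * e) ^ 4 = ((p * e) * (p * e)) * ((p * e) * (p * e)) := by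
      simp [pow_succ, mul_assoc]
    rw [this, hpe]
    calc (p * p) * u * ((p * p) * u) = (p * p) * (u * (p * p)) * u := by group
      _ = (p * p) * ((p * p) * u) * u := by rw [hpc u huP]
      _ = ((p * p) * (p * p)) * (u * u) := by group
      _ = 1 := by
        rw [hu2, mul_one, ← hp4]; simp [pow_succ, mul_assoc]
  have hpec := h.sq_central hP (P.mul_mem hp he) hpe4
  refine ⟨hu2, fun g hg => ?_⟩
  have h1 := hpec g hg
  rw [hpe] at h1
  have h2 := hpc g hg
  have h3 : (p * p) * (g * u) = (p * p) * (u * g) := by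
    calc (p * p) * (g * u) = ((p * p) * g) * u := by group
      _ = (g * (p * p)) * u := by rw [h2]
      _ = g * ((p * p) * u) := by group
      _ = (p * p) * u * g := h1
      _ = (p * p) * (u * g) := by group
  exact mul_left_cancel h3

/-- The subgroup generated by the involutions of `S`. -/
def Om (S : Subgroup G) : Subgroup G := closure {e : G | e ∈ S ∧ e * e = 1}

theorem om_le (S : Subgroup G) : Om S ≤ S := (closure_le _).2 fun _ he => he.1

theorem mem_om {S : Subgroup G} {e : G} (he : e ∈ S) (he2 : e * e = 1) : e ∈ Om S :=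
  Subgroup.subset_closure ⟨he, he2⟩

theorem FM.om_sq_aux (h : FM G) {S : Subgroup G} (hS : IsPGroup 2 S) {x y : G} (hxS : x ∈ S)
    (hy : y ∈ S) (hy2 : y * y = 1)
    (ih : (∀ g ∈ S, g * (x * x) = (x * x) * g) ∧ (x * x) * (x * x) = 1) :
    (∀ g ∈ S, g * ((x * y) * (x * y)) = ((x * y) * (x * y)) * g) ∧
      ((x * y) * (x * y)) * ((x * y) * (x * y)) = 1 := by
  obtain ⟨ih1, ih2⟩ := ih
  have hx4 : x ^ 4 = 1 := by rw [← ih2]; simp [pow_succ, mul_assoc]
  obtain ⟨hu2, huc⟩ := h.comm_central hS hy hxS hy2 hx4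
  have e1 : (x * y) * (x * y) = (x * x) * (x⁻¹ * y * x * y) := by group
  rw [e1]
  constructor
  · intro g hg
    calc g * ((x * x) * (x⁻¹ * y * x * y)) = (g * (x * x)) * (x⁻¹ * y * x * y) := by group
      _ = ((x * x) * g) * (x⁻¹ * y * x * y) := by rw [ih1 g hg]
      _ = (x * x) * (g * (x⁻¹ * y * x * y)) := by group
      _ = (x * x) * ((x⁻¹ * y * x * y) * g) := by rw [huc g hg]
      _ = (x * x) * (x⁻¹ * y * x * y) * g := by group
  · have hxx : x * x ∈ S := S.mul_mem hxS hxS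
    calc (x * x) * (x⁻¹ * y * x * y) * ((x * x) * (x⁻¹ * y * x * y))
        = (x * x) * ((x⁻¹ * y * x * y) * (x * x)) * (x⁻¹ * y * x * y) := by group
      _ = (x * x) * ((x * x) * (x⁻¹ * y * x * y)) * (x⁻¹ * y * x * y) := by rw [huc _ hxx]
      _ = ((x * x) * (x * x)) * ((x⁻¹ * y * x * y) * (x⁻¹ * y * x * y)) := by group
      _ = 1 := by rw [ih2, hu2, mul_one]

/-- The squares of the elements of `Om S` are central in `S` and of order at most 2. -/
theorem FM.om_sq (h : FM G) {S : Subgroup G} (hS : IsPGroup 2 S) {y : G} (hy : y ∈ Om S) :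
    (∀ g ∈ S, g * (y * y) = (y * y) * g) ∧ (y * y) * (y * y) = 1 := by
  unfold Om at hy
  induction hy using closure_induction_right with
  | one => simp
  | mul_right x hx y hy ih => exact h.om_sq_aux hS (om_le S hx) hy.1 hy.2 ih
  | mul_inv_cancel x hx y hy ih =>
    have : y⁻¹ = y := inv_eq_of_mul_eq_one_right hy.2
    rw [this]
    exact h.om_sq_aux hS (om_le S hx) hy.1 hy.2 ih

/-- `[Om S, Om S]` is central in `S`. -/
theorem FM.om_comm_central (h : FM G) {S : Subgroup G} (hS : IsPGroup 2 S) {a b : G}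
    (ha : a ∈ Om S) (hb : b ∈ Om S) : ∀ g ∈ S, g * (a * b * a⁻¹ * b⁻¹) = (a * b * a⁻¹ * b⁻¹) * g := by
  have h1 := (h.om_sq hS ha).1
  have h2 := (h.om_sq hS (mul_mem (inv_mem ha) hb)).1
  have h3 := (h.om_sq hS (inv_mem hb)).1
  have e : a * b * a⁻¹ * b⁻¹ = (a * a) * ((a⁻¹ * b) * (a⁻¹ * b)) * (b⁻¹ * b⁻¹) := by group
  intro g hg
  rw [e]
  calc g * ((a * a) * ((a⁻¹ * b) * (a⁻¹ * b)) * (b⁻¹ * b⁻¹))
      = (g * (a * a)) * ((a⁻¹ * b) * (a⁻¹ * b)) * (b⁻¹ * b⁻¹) := by simp only [mul_assoc]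
    _ = (a * a) * (g * ((a⁻¹ * b) * (a⁻¹ * b))) * (b⁻¹ * b⁻¹) := by
        rw [h1 g hg]; simp only [mul_assoc]
    _ = (a * a) * ((a⁻¹ * b) * (a⁻¹ * b)) * (g * (b⁻¹ * b⁻¹)) := by
        rw [h2 g hg]; simp only [mul_assoc]
    _ = (a * a) * ((a⁻¹ * b) * (a⁻¹ * b)) * (b⁻¹ * b⁻¹) * g := by
        rw [h3 g hg]; simp only [mul_assoc]

theorem om_map_conj (S : Subgroup G) (g : G) :
    Om (S.map (MulAut.conj g).toMonoidHom) = (Om S).map (MulAut.conj g).toMonoidHom := by
  unfold Om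
  rw [MonoidHom.map_closure]
  congr 1
  ext x
  constructor
  · rintro ⟨⟨s, hs, rfl⟩, hx⟩
    refine ⟨s, ⟨hs, ?_⟩, rfl⟩
    have h1 : (MulAut.conj g) (s * s) = 1 := by rw [map_mul]; exact hx
    exact (map_eq_one_iff _ (MulAut.conj g).injective).1 h1
  · rintro ⟨s, ⟨hs, hs2⟩, rfl⟩
    refine ⟨⟨s, hs, rfl⟩, ?_⟩
    show (MulAut.conj g) s * (MulAut.conj g) s = 1
    rw [← map_mul, hs2, map_one]

theorem om_mono {S T : Subgroup G} (h : S ≤ T) : Om S ≤ Om T :=
  closure_mono fun _ he => ⟨h he.1, he.2⟩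

theorem om_om (S : Subgroup G) : Om (Om S) = Om S := by
  apply le_antisymm (om_mono (om_le S))
  exact (closure_le _).2 fun e he => mem_om (mem_om he.1 he.2) he.2

/-- The automorphisms of centric subgroups of `S` preserve `Om S`. -/
theorem FM.om_conj (h : FM G) (S : Sylow 2 G) {X : Subgroup G} (hXS : X ≤ (S : Subgroup G))
    (hcen : centralizer (X : Set G) ⊓ S ≤ X) {k : G} (hk : k ∈ normalizer (X : Set G)) {y : G}
    (hyX : y ∈ X) (hy : y ∈ Om (S : Subgroup G)) : k * y * k⁻¹ ∈ Om (S : Subgroup G) := by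
  haveI : Fact (Nat.Prime 2) := ⟨Nat.prime_two⟩
  have hS : IsPGroup 2 (S : Subgroup G) := S.2
  set P0 : Subgroup G := closure {p : G | p ∈ X ∧ p ^ 4 = 1} with hP0
  have hP0X : P0 ≤ X := (closure_le _).2 fun _ hp => hp.1
  have hP0S : P0 ≤ (S : Subgroup G) := hP0X.trans hXS
  have hconjP0 : ∀ n ∈ normalizer (X : Set G), ∀ p ∈ P0, n * p * n⁻¹ ∈ P0 := by
    intro n hn
    have h1 : P0 ≤ P0.comap (MulAut.conj n).toMonoidHom := by
      rw [hP0, closure_le]
      intro p hp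
      show n * p * n⁻¹ ∈ P0
      apply Subgroup.subset_closure
      refine ⟨(mem_normalizer_iff.1 hn p).1 hp.1, ?_⟩
      have : (n * p * n⁻¹) ^ 4 = n * p ^ 4 * n⁻¹ := by
        rw [← conj_pow]
      rw [this, hp.2]; group
    exact fun p hp => h1 hp
  set N0 : Subgroup G := normalizer (P0 : Set G) with hN0
  have hkN : k ∈ N0 := by
    rw [hN0, mem_normalizer_iff]
    intro p
    constructor
    · exact hconjP0 k hk p
    · intro hp
      have := hconjP0 k⁻¹ (inv_mem hk) _ hp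
      simpa [mul_assoc] using this
  have hyP0 : y ∈ P0 := by
    apply Subgroup.subset_closure
    refine ⟨hyX, ?_⟩
    rw [← (h.om_sq hS hy).2]; simp [pow_succ, mul_assoc]
  -- the subgroup `V`
  let V : Subgroup G :=
    { carrier := {v | v ∈ P0 ∧ v * v = 1 ∧ ∀ p ∈ P0, v * p = p * v}
      one_mem' := ⟨one_mem _, by simp, fun p _ => by simp⟩
      mul_mem' := by
        rintro a b ⟨ha, ha2, hac⟩ ⟨hb, hb2, hbc⟩
        refine ⟨mul_mem ha hb, ?_, ?_⟩
        · calc a * b * (a * b) = a * (b * a) * b := by group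
            _ = a * (a * b) * b := by rw [hac b hb]
            _ = (a * a) * (b * b) := by group
            _ = 1 := by rw [ha2, hb2, mul_one]
        · intro p hp
          rw [mul_assoc, hbc p hp, ← mul_assoc, hac p hp, mul_assoc]
      inv_mem' := by
        rintro a ⟨ha, ha2, hac⟩
        have : a⁻¹ = a := inv_eq_of_mul_eq_one_right ha2
        rw [this]
        exact ⟨ha, ha2, hac⟩ }
  have memV : ∀ v : G, v ∈ V ↔ v ∈ P0 ∧ v * v = 1 ∧ ∀ p ∈ P0, v * p = p * v := fun v => Iff.rfl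
  have hVN : ∀ v ∈ V, ∀ n ∈ N0, n * v * n⁻¹ ∈ V := by
    intro v hv n hn
    obtain ⟨hv0, hv2, hvc⟩ := (memV v).1 hv
    rw [memV]
    refine ⟨(mem_normalizer_iff.1 hn v).1 hv0, ?_, ?_⟩
    · calc n * v * n⁻¹ * (n * v * n⁻¹) = n * (v * v) * n⁻¹ := by group
        _ = 1 := by rw [hv2]; group
    · intro p hp
      have hp' : n⁻¹ * p * n ∈ P0 := by
        have := (mem_normalizer_iff.1 (inv_mem hn) p).1 hp
        simpa using this
      calc n * v * n⁻¹ * p = n * (v * (n⁻¹ * p * n)) * n⁻¹ := by group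
        _ = n * ((n⁻¹ * p * n) * v) * n⁻¹ := by rw [hvc _ hp']
        _ = p * (n * v * n⁻¹) := by group
  -- Step 1
  have step1 : ∀ e ∈ (S : Subgroup G), e * e = 1 → ∀ p ∈ P0, e * p * e⁻¹ * p⁻¹ ∈ V := by
    intro e he he2 p hp
    rw [hP0] at hp
    induction hp using closure_induction with
    | mem p hp =>
      have hpS : p ∈ (S : Subgroup G) := hXS hp.1
      obtain ⟨hu2, huc⟩ := h.comm_central hS he (inv_mem hpS) he2 (by rw [inv_pow, hp.2, inv_one])
      have heinv : e⁻¹ = e := inv_eq_of_mul_eq_one_right he2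
      have e1 : e * p * e⁻¹ * p⁻¹ = ((p⁻¹)⁻¹ * e * p⁻¹ * e)⁻¹ := by
        rw [heinv]
        have : ((p⁻¹)⁻¹ * e * p⁻¹ * e)⁻¹ = e⁻¹ * p * e⁻¹ * p⁻¹ := by group
        rw [this, heinv]
      rw [e1]
      apply inv_mem
      set u := (p⁻¹)⁻¹ * e * p⁻¹ * e with hu
      have huS : u ∈ (S : Subgroup G) :=
        mul_mem (mul_mem (mul_mem (inv_mem (inv_mem hpS)) he) (inv_mem hpS)) he
      have huX : u ∈ X := by
        apply hcen
        refine ⟨mem_centralizer_iff.2 fun x hx => ?_, huS⟩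
        exact huc x (hXS hx)
      rw [memV]
      refine ⟨Subgroup.subset_closure ⟨huX, ?_⟩, hu2, fun p hp => (huc p (hP0S hp)).symm⟩
      have : u ^ 4 = (u * u) * (u * u) := by simp [pow_succ, mul_assoc]
      rw [this, hu2, one_mul]
    | one => simp
    | mul a b ha hb iha ihb =>
      have hbc := ((memV _).1 ihb).2.2
      have e1 : e * (a * b) * e⁻¹ * (a * b)⁻¹ =
          (e * a * e⁻¹ * a⁻¹) * (a * (e * b * e⁻¹ * b⁻¹) * a⁻¹) := by group
      rw [e1]
      have haP : a ∈ P0 := ha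
      have e2 : a * (e * b * e⁻¹ * b⁻¹) * a⁻¹ = e * b * e⁻¹ * b⁻¹ := by
        rw [← hbc a haP]; group
      rw [e2]
      exact mul_mem iha ihb
    | inv a ha iha =>
      have hac := ((memV _).1 iha).2.2
      have haP : a ∈ P0 := ha
      have e1 : e * a⁻¹ * e⁻¹ * a⁻¹⁻¹ = a⁻¹ * (e * a * e⁻¹ * a⁻¹)⁻¹ * a := by group
      have e2 : a⁻¹ * (e * a * e⁻¹ * a⁻¹)⁻¹ * a = (e * a * e⁻¹ * a⁻¹)⁻¹ := by
        have h3 := ((memV _).1 (inv_mem iha)).2.2 a⁻¹ (inv_mem haP)
        rw [← h3]; group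
      rw [e1, e2]
      exact inv_mem iha
  -- Step 2
  have step2 : ∀ e ∈ (S : Subgroup G), e * e = 1 → e ∈ N0 := by
    intro e he he2
    have heinv : e⁻¹ = e := inv_eq_of_mul_eq_one_right he2
    have h1 : ∀ p ∈ P0, e * p * e⁻¹ ∈ P0 := by
      intro p hp
      have h2 := ((memV _).1 (step1 e he he2 p hp)).1
      have : e * p * e⁻¹ = (e * p * e⁻¹ * p⁻¹) * p := by group
      rw [this]
      exact mul_mem h2 hp
    rw [hN0, mem_normalizer_iff]
    intro p
    constructor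
    · exact h1 p
    · intro hp
      have h2 := h1 _ hp
      have : e * (e * p * e⁻¹) * e⁻¹ = p := by
        rw [heinv]
        calc e * (e * p * e) * e = (e * e) * p * (e * e) := by group
          _ = p := by rw [he2]; simp
      rwa [this] at h2
  -- Step 3
  set X0 : Subgroup G := closure {g : G | ∃ x ∈ N0, ∃ e ∈ (S : Subgroup G), e * e = 1 ∧
    g = x * e * x⁻¹} with hX0
  have hX0N : X0 ≤ N0 := by
    rw [hX0, closure_le]
    rintro g ⟨x, hx, e, he, he2, rfl⟩
    exact mul_mem (mul_mem hx (step2 e he he2)) (inv_mem hx)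
  have step3 : ∀ g ∈ X0, ∀ p ∈ P0, g * p * g⁻¹ * p⁻¹ ∈ V := by
    intro g hg
    rw [hX0] at hg
    induction hg using closure_induction with
    | mem g hg =>
      obtain ⟨x, hx, e, he, he2, rfl⟩ := hg
      intro p hp
      have hp' : x⁻¹ * p * x ∈ P0 := by
        have := (mem_normalizer_iff.1 (inv_mem hx) p).1 hp
        simpa using this
      have h1 := hVN _ (step1 e he he2 _ hp') x hx
      have e1 : x * (e * (x⁻¹ * p * x) * e⁻¹ * (x⁻¹ * p * x)⁻¹) * x⁻¹ =
          x * e * x⁻¹ * p * (x * e * x⁻¹)⁻¹ * p⁻¹ := by group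
      rwa [e1] at h1
    | one => intro p hp; simp
    | mul a b ha hb iha ihb =>
      intro p hp
      have hbN : b ∈ N0 := hX0N hb
      have hp' : b * p * b⁻¹ ∈ P0 := (mem_normalizer_iff.1 hbN p).1 hp
      have e1 : a * b * p * (a * b)⁻¹ * p⁻¹ =
          (a * (b * p * b⁻¹) * a⁻¹ * (b * p * b⁻¹)⁻¹) * (b * p * b⁻¹ * p⁻¹) := by group
      rw [e1]
      exact mul_mem (iha _ hp') (ihb _ hp)
    | inv a ha iha =>
      intro p hp
      have haN : a ∈ N0 := hX0N ha
      have hp' : a⁻¹ * p * a ∈ P0 := by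
        have := (mem_normalizer_iff.1 (inv_mem haN) p).1 hp
        simpa using this
      have h1 := inv_mem (iha _ hp')
      have e1 : (a * (a⁻¹ * p * a) * a⁻¹ * (a⁻¹ * p * a)⁻¹)⁻¹ = a⁻¹ * p * a⁻¹⁻¹ * p⁻¹ := by group
      rwa [e1] at h1
  -- Step 4
  have hOX : Om (S : Subgroup G) ≤ X0 := by
    apply (closure_le _).2
    rintro e ⟨he, he2⟩
    exact Subgroup.subset_closure ⟨1, one_mem _, e, he, he2, by group⟩
  have hkOX : (Om (S : Subgroup G)).map (MulAut.conj k).toMonoidHom ≤ X0 := by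
    rw [Om, MonoidHom.map_closure, closure_le]
    rintro _ ⟨e, ⟨he, he2⟩, rfl⟩
    exact Subgroup.subset_closure ⟨k, hkN, e, he, he2, by simp⟩
  have hOp : IsPGroup 2 (Om (S : Subgroup G)) := hS.to_le (om_le _)
  obtain ⟨R, hOR, hRX, hRp, hRi⟩ := exists_sylow_in (p := 2) hOX hOp
  obtain ⟨x0, hx0, hx0R⟩ := exists_conj_le_in (p := 2) hRp hRi hkOX (hOp.map _)
  rw [map_conj_map_conj] at hx0R
  obtain ⟨S', hS'⟩ := hRp.exists_le_sylow
  obtain ⟨g, hg⟩ := MulAction.exists_smul_eq G S S'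
  have hS'S : (S' : Subgroup G) = (S : Subgroup G).map (MulAut.conj g).toMonoidHom := by
    rw [← hg]; rfl
  have hcard : Nat.card (Om (S' : Subgroup G)) = Nat.card (Om (S : Subgroup G)) := by
    rw [hS'S, om_map_conj, card_map_conj]
  have h1 : Om (S : Subgroup G) = Om (S' : Subgroup G) := by
    apply eq_of_le_of_card_ge _ hcard.le
    conv_lhs => rw [← om_om]
    exact om_mono (hOR.trans hS')
  have h2 : (Om (S : Subgroup G)).map (MulAut.conj (x0 * k)).toMonoidHom = Om (S' : Subgroup G) := by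
    apply eq_of_le_of_card_ge _ (by rw [hcard, card_map_conj])
    have h3 : Om ((Om (S : Subgroup G)).map (MulAut.conj (x0 * k)).toMonoidHom) =
        (Om (S : Subgroup G)).map (MulAut.conj (x0 * k)).toMonoidHom := by
      rw [om_map_conj, om_om]
    rw [← h3]
    exact om_mono (hx0R.trans hS')
  -- Step 5
  have hgN : x0 * k ∈ N0 := mul_mem (hX0N hx0) hkN
  have hy2 : (x0 * k) * y * (x0 * k)⁻¹ ∈ Om (S : Subgroup G) := by
    rw [h1, ← h2]
    exact conj_mem_map_conj hy (x0 * k)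
  have hy2P : (x0 * k) * y * (x0 * k)⁻¹ ∈ P0 := (mem_normalizer_iff.1 hgN y).1 hyP0
  have hv := step3 x0⁻¹ (inv_mem hx0) _ hy2P
  have hv' := (memV _).1 hv
  have e1 : k * y * k⁻¹ = (x0⁻¹ * ((x0 * k) * y * (x0 * k)⁻¹) * x0⁻¹⁻¹ *
      ((x0 * k) * y * (x0 * k)⁻¹)⁻¹) * ((x0 * k) * y * (x0 * k)⁻¹) := by group
  rw [e1]
  exact mul_mem (mem_om (hP0S hv'.1) hv'.2.1) hy2

/-- **`Om S` is strongly closed in `S`.** -/
theorem FM.om_stronglyClosed (h : FM G) (S : Sylow 2 G) :
    Cfsg.IsStronglyClosed (Om (S : Subgroup G)) (S : Subgroup G) := by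
  haveI : Fact (Nat.Prime 2) := ⟨Nat.prime_two⟩
  refine ⟨om_le _, ?_⟩
  intro x hx g hgx
  have hgen := gen_of_conj S (fun X => X ≤ (S : Subgroup G) ∧ centralizer (X : Set G) ⊓ S ≤ X)
    ⟨le_rfl, inf_le_right⟩ (fun X hX _ h2 _ => ⟨hX.le, h2⟩)
    (A := zpowers x) (by rw [zpowers_le]; exact om_le _ hx) (zpowers_map_conj_le hgx)
  have := Gen.invariant (fun y => y ∈ Om (S : Subgroup G)) (by
    rintro X hXS ⟨-, hX⟩ k hk y hy
    apply propext
    constructor
    · intro h1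
      have h2 := h.om_conj S hXS hX (inv_mem hk) ((mem_normalizer_iff.1 hk y).1 hy) h1
      have e : k⁻¹ * (k * y * k⁻¹) * k⁻¹⁻¹ = y := by group
      rwa [e] at h2
    · exact h.om_conj S hXS hX hk hy) hgen x (mem_zpowers x)
  exact this.symm.mp hx

/-- If `x` has order 4 then `x²` is its only conjugate which commutes with `x`. -/
theorem FM.isolated (h : FM G) {x : G} (hx4 : x ^ 4 = 1) {g : G}
    (hc : x * (g * (x * x) * g⁻¹) = (g * (x * x) * g⁻¹) * x) : g * (x * x) * g⁻¹ = x * x := by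
  haveI : Fact (Nat.Prime 2) := ⟨Nat.prime_two⟩
  set d := g * (x * x) * g⁻¹ with hd
  set C : Subgroup G := centralizer ({d} : Set G) with hC
  have hxC : x ∈ C := by rw [hC, mem_centralizer_singleton_iff]; exact hc
  have hyC : g * x * g⁻¹ ∈ C := by
    rw [hC, mem_centralizer_singleton_iff, hd]; group
  have hp : ∀ z : G, z ^ 4 = 1 → IsPGroup 2 (zpowers z) := by
    intro z hz
    have h1 : orderOf z ∣ 2 ^ 2 := orderOf_dvd_of_pow_eq_one (by norm_num; exact hz)
    obtain ⟨k, -, hk⟩ := (Nat.dvd_prime_pow Nat.prime_two).1 h1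
    apply IsPGroup.of_card (n := k)
    rw [Nat.card_zpowers, hk]
  have hy4 : (g * x * g⁻¹) ^ 4 = 1 := by rw [conj_pow, hx4]; group
  obtain ⟨R, hR, hRC, hRp, hRi⟩ := exists_sylow_in (p := 2) ((zpowers_le).2 hxC) (hp x hx4)
  obtain ⟨n, hn, hnR⟩ := exists_conj_le_in (p := 2) hRp hRi ((zpowers_le).2 hyC) (hp _ hy4)
  have h1 : (n * g) * x * (n * g)⁻¹ ∈ R := by
    have := hnR (conj_mem_map_conj (mem_zpowers (g * x * g⁻¹)) n)
    have e : n * (g * x * g⁻¹) * n⁻¹ = (n * g) * x * (n * g)⁻¹ := by group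
    rwa [e] at this
  have h2 := h.sq_eq hRp (hR (mem_zpowers x)) h1 hx4
  have hnd : n * d * n⁻¹ = d := by
    rw [hC, mem_centralizer_singleton_iff] at hn
    rw [hn]; group
  calc d = n * d * n⁻¹ := hnd.symm
    _ = ((n * g) * x * (n * g)⁻¹) * ((n * g) * x * (n * g)⁻¹) := by rw [hd]; group
    _ = x * x := h2

end Cfsg.Agent.H270.FusMod
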