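import Cfsg.Agent.H270.FusMod
import Cfsg.Agent.S0215
import Cfsg.Agent.TwoFusion.StronglyEmbeddedBasic

/-!
# 2-fusion modular simple groups with one class of involutions have abelian Sylow 2-subgroups
-/

set_option autoImplicit false
set_option linter.unusedSectionVars false
set_option linter.style.haveILetI false

namespace Cfsg.Agent.H270.FusOne

open Subgroup Cfsg.Agent.H270.FusMod

universe u

variable {G : Type u} [Group G] [Finite G]

/-- If every element of the 2-subgroup `S` with `x ^ 4 = 1` has order at most 2 then so has every element. -/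
theorem sq_eq_one_of_pow_four {S : Subgroup G} (hS : IsPGroup 2 S)
    (h : ∀ x ∈ S, x ^ 4 = 1 → x * x = 1) : ∀ x ∈ S, x * x = 1 := by
  intro x hx
  obtain ⟨k, hk⟩ := hS ⟨x, hx⟩
  have hk' : x ^ 2 ^ k = 1 := by simpa using congrArg (fun t : S => (t : G)) hk
  clear hk
  induction k with
  | zero => simp only [pow_zero, pow_one] at hk'; rw [hk', one_mul]
  | succ k ih =>
    by_cases hk1 : k = 0
    · subst hk1; simpa [pow_two] using hk'
    · obtain ⟨j, rfl⟩ : ∃ j, k = j + 1 := ⟨k - 1, by omega⟩
      apply ih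
      have h4 : (x ^ 2 ^ j) ^ 4 = 1 := by
        rw [← hk', ← pow_mul]; congr 1; rw [pow_succ, pow_succ]; ring
      have h5 := h _ (S.pow_mem hx _) h4
      rw [← h5, ← pow_add]; congr 1; rw [pow_succ]; ring

/-- **One class of involutions.** -/
theorem comm_of_one_class [IsSimpleGroup G] (hG : ¬ IsMulCommutative G) (h : FM G)
    (hone : ∀ a b : G, orderOf a = 2 → orderOf b = 2 → IsConj a b) (S : Sylow 2 G) :
    ∀ a ∈ (S : Subgroup G), ∀ b ∈ (S : Subgroup G), a * b = b * a := by
  haveI : Fact (Nat.Prime 2) := ⟨Nat.prime_two⟩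
  have hS : IsPGroup 2 (S : Subgroup G) := S.2
  by_contra hna
  -- an element of order 4
  have hex : ∃ x ∈ (S : Subgroup G), x ^ 4 = 1 ∧ x * x ≠ 1 := by
    by_contra hno
    push Not at hno
    have h1 := sq_eq_one_of_pow_four hS hno
    apply hna
    intro a ha b hb
    have ha2 := h1 a ha
    have hb2 := h1 b hb
    have hab := h1 _ ((S : Subgroup G).mul_mem ha hb)
    calc a * b = a * ((a * b) * (a * b)) * b := by rw [hab, mul_one]
      _ = (a * a) * b * a * (b * b) := by simp only [mul_assoc]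
      _ = b * a := by rw [ha2, hb2]; simp
  obtain ⟨x, hxS, hx4, hx2⟩ := hex
  obtain ⟨c, hc⟩ : ∃ c, c = x * x := ⟨_, rfl⟩
  rw [← hc] at hx2
  have hcc : c * c = 1 := by rw [hc, ← hx4]; simp [pow_succ, mul_assoc]
  have hcS : c ∈ (S : Subgroup G) := hc ▸ (S : Subgroup G).mul_mem hxS hxS
  have ordtwo : ∀ z : G, z * z = 1 → z ≠ 1 → orderOf z = 2 := fun z h1 h2 =>
    orderOf_eq_prime (by rw [pow_two]; exact h1) h2
  have hco : orderOf c = 2 := ordtwo c hcc hx2
  -- a second conjugate of `c` in `S`
  have hd : ∃ g : G, g * c * g⁻¹ ∈ S ∧ g * c * g⁻¹ ≠ c := by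
    by_contra hno
    push Not at hno
    obtain ⟨N, hN, hodd, hcomm⟩ := Cfsg.Agent.S0215.result S c hco hcS hno
    rcases hN.eq_bot_or_eq_top with h1 | h1
    · -- `c` is central
      have h2 : ∀ g : G, c * g = g * c := by
        intro g
        have h3 := hcomm g
        rw [h1, mem_bot] at h3
        calc c * g = (c * g * c⁻¹ * g⁻¹) * (g * c) := by group
          _ = g * c := by rw [h3, one_mul]
      have h3 : c ∈ center G := mem_center_iff.2 fun g => (h2 g).symm
      rcases (inferInstance : (center G).Normal).eq_bot_or_eq_top with h4 | h4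
      · rw [h4, mem_bot] at h3; exact hx2 h3
      · apply hG
        refine ⟨⟨fun a b => ?_⟩⟩
        have : b ∈ center G := by rw [h4]; trivial
        exact mem_center_iff.1 this a
    · rw [h1, card_top] at hodd
      have h2 : 2 ∣ Nat.card G := by rw [← hco]; exact orderOf_dvd_natCard c
      exact (Nat.not_even_iff_odd.2 hodd) (even_iff_two_dvd.2 h2)
  obtain ⟨g, hdS, hdc⟩ := hd
  obtain ⟨d, hd⟩ : ∃ d, d = g * c * g⁻¹ := ⟨_, rfl⟩
  rw [← hd] at hdS hdc
  have hdd : d * d = 1 := by
    calc d * d = g * (c * c) * g⁻¹ := by rw [hd]; group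
      _ = 1 := by rw [hcc]; group
  have hd1 : d ≠ 1 := by
    intro h1
    apply hx2
    have : c = g⁻¹ * d * g := by rw [hd]; group
    rw [this, h1]; group
  -- `x d x⁻¹` commutes with `d`
  have hxdS : x * d * x⁻¹ ∈ (S : Subgroup G) := mul_mem (mul_mem hxS hdS) (inv_mem hxS)
  have h1 : d * (x * d * x⁻¹) = (x * d * x⁻¹) * d := h.comm hS hdS hxdS hdd
  have hcd : c * d = d * c := by
    have := h.sq_central hS hxS hx4 d hdS
    rw [← hc] at this
    exact this.symm
  obtain ⟨e, he⟩ : ∃ e, e = d * (x * d * x⁻¹) := ⟨_, rfl⟩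
  have hxd2 : (x * d * x⁻¹) * (x * d * x⁻¹) = 1 := by
    calc (x * d * x⁻¹) * (x * d * x⁻¹) = x * (d * d) * x⁻¹ := by group
      _ = 1 := by rw [hdd]; group
  have hee : e * e = 1 := by
    calc e * e = d * ((x * d * x⁻¹) * d) * (x * d * x⁻¹) := by rw [he]; simp only [mul_assoc]
      _ = d * (d * (x * d * x⁻¹)) * (x * d * x⁻¹) := by rw [h1]
      _ = (d * d) * ((x * d * x⁻¹) * (x * d * x⁻¹)) := by simp only [mul_assoc]
      _ = 1 := by rw [hdd, hxd2, mul_one]
  have hxx : x * x = c := hc.symm
  have hxe : x * e = e * x := by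
    have h2 : x * e * x⁻¹ = e := by
      calc x * e * x⁻¹ = (x * d * x⁻¹) * ((x * x) * d * (x * x)⁻¹) := by rw [he]; group
        _ = (x * d * x⁻¹) * (c * d * c⁻¹) := by rw [hxx]
        _ = (x * d * x⁻¹) * d := by rw [hcd, mul_assoc d c, mul_inv_cancel, mul_one]
        _ = e := by rw [he, h1]
    calc x * e = (x * e * x⁻¹) * x := by group
      _ = e * x := by rw [h2]
  have he1 : e ≠ 1 := by
    intro h2
    -- then `x` commutes with `d`
    apply hdc
    have h3 : x * d = d * x := by
      have h4 : x * d * x⁻¹ = d := by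
        calc x * d * x⁻¹ = d * (d * (x * d * x⁻¹)) := by rw [← mul_assoc, hdd, one_mul]
          _ = d := by rw [← he, h2, mul_one]
      calc x * d = (x * d * x⁻¹) * x := by group
        _ = d * x := by rw [h4]
    have h4 := h.isolated hx4 (g := g) (by rw [← hc, ← hd]; exact h3)
    rw [← hc, ← hd] at h4
    exact h4
  obtain ⟨k, hk⟩ := isConj_iff.1 (hone c e hco (ordtwo e hee he1))
  have hec : e = c := by
    have := h.isolated hx4 (g := k) (by
      rw [← hc, hk]; exact hxe)
    rw [← hc, hk] at this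
    exact this
  -- `(d x)² = 1`
  have hdx : (d * x) * (d * x) = 1 := by
    calc (d * x) * (d * x) = (d * (x * d * x⁻¹)) * (x * x) := by group
      _ = c * c := by rw [← he, hec, hxx]
      _ = 1 := hcc
  have hdx1 : d * x ≠ 1 := by
    intro h2
    have h3 : x = d := by
      calc x = d * (d * x) := by rw [← mul_assoc, hdd, one_mul]
        _ = d := by rw [h2, mul_one]
    apply hx2
    rw [hc, h3]; exact hdd
  obtain ⟨m, hm⟩ := isConj_iff.1 (hone d (d * x) (ordtwo d hdd hd1) (ordtwo _ hdx hdx1))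
  have h2 := h.comm hS hdS (g := m) (by rw [hm]; exact mul_mem hdS hxS) hdd
  rw [hm] at h2
  apply hx2
  have h3 : x * d = d * x := by
    have h4 : d * (d * x) = d * x * d := h2
    have h5 : x = d * x * d := by rw [← h4, ← mul_assoc, hdd, one_mul]
    calc x * d = (d * x * d) * d := by rw [← h5]
      _ = d * x := by rw [mul_assoc, hdd, mul_one]
  calc c = (d * d) * (x * x) := by rw [hdd, one_mul, hc]
    _ = d * (d * x) * x := by simp only [mul_assoc]
    _ = d * (x * d) * x := by rw [h3]
    _ = (d * x) * (d * x) := by simp only [mul_assoc]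
    _ = 1 := hdx

end Cfsg.Agent.H270.FusOne
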