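import Mathlib
import Cfsg.Agent.SolvableStructure.SupersolvableBasic
import Cfsg.Agent.SolvableStructure.HereditaryCLT

/-!
# Supersolvable linear groups over `F_r` all of whose prime power elements are quasi-scalar

An element `x` is quasi-scalar if it acts as a scalar on the image of `x - 1`. An irreducible supersolvable
group over the field with `r` elements in which all elements of prime power order `p ^ a`, `p ≠ r`, are quasi-scalar,
consists of scalars.
-/

set_option autoImplicit false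
set_option linter.unusedSectionVars false
set_option linter.style.haveILetI false

namespace Cfsg.Agent.H270.QuasiScalar

open Cfsg.Agent.SolvableStructure

universe u v

variable {r : ℕ} [hr : Fact r.Prime] {V : Type v} [AddCommGroup V] [Module (ZMod r) V] {M : Type u} [Group M]

/-- quasi-scalar -/
def QS (f : V →ₗ[ZMod r] V) (l : ZMod r) : Prop := ∀ v, f (f v - v) = l • (f v - v)

/-- elements of prime power order, the prime not being `r` -/
def PE (r : ℕ) (x : M) : Prop := ∃ p : ℕ, p.Prime ∧ p ≠ r ∧ ∃ a : ℕ, orderOf x = p ^ a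

/-- The hypotheses. -/
structure Hyp (ρ : M →* (V →ₗ[ZMod r] V)) : Prop where
  inj : ∀ x, ρ x = 1 → x = 1
  irr : ∀ W : Submodule (ZMod r) V, (∀ x, ∀ w ∈ W, ρ x w ∈ W) → W = ⊥ ∨ W = ⊤
  qs : ∀ x : M, PE r x → ∃ l : ZMod r, QS (ρ x) l
  ss : Cfsg.IsSupersolvable M

namespace Hyp

variable {ρ : M →* (V →ₗ[ZMod r] V)} (h : Hyp ρ)
include h

theorem ext {x y : M} (hxy : ∀ v, ρ x v = ρ y v) : x = y := by
  have : x * y⁻¹ = 1 := by
    apply h.inj
    ext v
    rw [map_mul, Module.End.mul_apply, hxy, ← Module.End.mul_apply, ← map_mul, mul_inv_cancel, map_one]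
  exact mul_inv_eq_one.1 this

theorem inv_apply (x : M) (v : V) : ρ x⁻¹ (ρ x v) = v := by
  rw [← Module.End.mul_apply, ← map_mul, inv_mul_cancel, map_one, Module.End.one_apply]

theorem apply_inv (x : M) (v : V) : ρ x (ρ x⁻¹ v) = v := by
  rw [← Module.End.mul_apply, ← map_mul, mul_inv_cancel, map_one, Module.End.one_apply]

theorem mul_apply (x y : M) (v : V) : ρ (x * y) v = ρ x (ρ y v) := by
  rw [map_mul, Module.End.mul_apply]

theorem one_apply (v : V) : ρ 1 v = v := by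
  rw [map_one, Module.End.one_apply]

theorem ne_zero {x : M} {v : V} (hv : v ≠ 0) : ρ x v ≠ 0 := by
  intro h0
  apply hv
  rw [← h.inv_apply x v, h0, map_zero]

theorem pow_eigen {x : M} {l : ZMod r} {v : V} (hv : ρ x v = l • v) (n : ℕ) : ρ (x ^ n) v = l ^ n • v := by
  induction n with
  | zero => rw [pow_zero, pow_zero, h.one_apply, one_smul]
  | succ n ih => rw [pow_succ, h.mul_apply, hv, map_smul, ih, smul_smul, pow_succ, mul_comm]

/-- `λ = 1` only for the identity -/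
theorem ne_one {x : M} (hx : x ≠ 1) (hp : PE r x) {l : ZMod r} (hl : QS (ρ x) l) : l ≠ 1 := by
  rintro rfl
  apply hx
  obtain ⟨p, hpp, hpr, a, ha⟩ := hp
  have hpow : ∀ (n : ℕ) (v : V), ρ (x ^ n) v = v + n • (ρ x v - v) := by
    intro n v
    induction n with
    | zero => rw [pow_zero, h.one_apply, zero_smul, add_zero]
    | succ n ih =>
      rw [pow_succ', h.mul_apply, ih, map_add, map_nsmul, hl v, one_smul, succ_nsmul]
      abel
  refine h.ext fun v => ?_
  rw [h.one_apply]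
  have h1 := hpow (p ^ a) v
  rw [← ha, pow_orderOf_eq_one, h.one_apply, ha] at h1
  have h2 : (p ^ a) • (ρ x v - v) = 0 := by
    have : v + (p ^ a) • (ρ x v - v) = v + 0 := by rw [← h1, add_zero]
    exact add_left_cancel this
  have h3 : ((p ^ a : ℕ) : ZMod r) • (ρ x v - v) = 0 := by
    rw [Nat.cast_smul_eq_nsmul]; exact h2
  rcases smul_eq_zero.1 h3 with h4 | h4
  · exfalso
    rw [ZMod.natCast_eq_zero_iff] at h4
    exact hpr ((Nat.prime_dvd_prime_iff_eq hr.out hpp).1 (hr.out.dvd_of_dvd_pow h4)).symm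
  · exact sub_eq_zero.1 h4

theorem exists_ne {x : M} (hx : x ≠ 1) : ∃ v, ρ x v - v ≠ 0 := by
  by_contra hno
  push Not at hno
  exact hx (h.ext fun v => by rw [h.one_apply]; exact sub_eq_zero.1 (hno v))

/-- the primes `p ≠ r` divide `r - 1` -/
theorem dvd_sub_one [Finite M] {p : ℕ} (hp : p.Prime) (hpr : p ≠ r) (hpM : p ∣ Nat.card M) : p ∣ r - 1 := by
  haveI := Fact.mk hp
  obtain ⟨x, hx⟩ := exists_prime_orderOf_dvd_card' p hpM
  have hx1 : x ≠ 1 := by
    rintro rfl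
    rw [orderOf_one] at hx
    exact hp.one_lt.ne hx
  have hPE : PE r x := ⟨p, hp, hpr, 1, by rw [hx, pow_one]⟩
  obtain ⟨l, hl⟩ := h.qs x hPE
  have hl1 := h.ne_one hx1 hPE hl
  obtain ⟨v, hv⟩ := h.exists_ne hx1
  have h1 := h.pow_eigen (hl v) p
  rw [← hx, pow_orderOf_eq_one, h.one_apply, hx] at h1
  have h2 : l ^ p = 1 := by
    have h3 : (1 - l ^ p) • (ρ x v - v) = 0 := by
      rw [sub_smul, one_smul, ← h1, sub_self]
    rcases smul_eq_zero.1 h3 with h4 | h4
    · exact (sub_eq_zero.1 h4).symm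
    · exact absurd h4 hv
  have hl0 : l ≠ 0 := by
    rintro rfl
    rw [zero_pow hp.ne_zero] at h2
    exact zero_ne_one h2
  rw [← orderOf_eq_prime h2 hl1]
  exact orderOf_dvd_of_pow_eq_one (ZMod.pow_card_sub_one_eq_one hl0)

/-- `r` does not divide the order of the group -/
theorem not_dvd_card [Finite M] [Finite V] [Nontrivial V] : ¬ r ∣ Nat.card M := by
  intro hrM
  have hmax : ∀ q : ℕ, q.Prime → q ∣ Nat.card M → q ≤ r := by
    intro q hq hqM
    by_cases hqr : q = r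
    · exact hqr.le
    · have h1 := h.dvd_sub_one hq hqr hqM
      have h2 := hr.out.two_le
      exact (Nat.le_of_dvd (by omega) h1).trans (Nat.sub_le _ _)
  obtain ⟨R⟩ : Nonempty (Sylow r M) := inferInstance
  have hRn : (R : Subgroup M).Normal :=
    HereditaryCLT.normal_sylow_largest (Nat.card M) le_rfl (fun H d hd =>
      SupersolvableBasic.exists_card_eq (SupersolvableBasic.subgroup h.ss H) hd) r hmax R
  have hR1 : (R : Subgroup M) ≠ ⊥ := R.ne_bot_of_dvd_card hrM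
  -- the fixed points
  let W : Submodule (ZMod r) V :=
    { carrier := {w | ∀ x ∈ (R : Subgroup M), ρ x w = w}
      add_mem' := fun {a b} ha hb x hx => by rw [map_add, ha x hx, hb x hx]
      zero_mem' := fun x _ => map_zero _
      smul_mem' := fun c v hv x hx => by rw [map_smul, hv x hx] }
  have memW : ∀ w, w ∈ W ↔ ∀ x ∈ (R : Subgroup M), ρ x w = w := fun _ => Iff.rfl
  have hWinv : ∀ y, ∀ w ∈ W, ρ y w ∈ W := by
    intro y w hw
    rw [memW] at hw ⊢
    intro x hx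
    have h1 := hw (y⁻¹ * x * y) (by simpa using hRn.conj_mem x hx y⁻¹)
    calc ρ x (ρ y w) = ρ (y * (y⁻¹ * x * y)) w := by rw [← h.mul_apply]; congr 2; group
      _ = ρ y w := by rw [h.mul_apply, h1]
  have hW0 : W ≠ ⊥ := by
    intro hW
    letI : MulAction (R : Subgroup M) V :=
      { smul := fun x v => ρ (x : M) v
        one_smul := fun v => h.one_apply v
        mul_smul := fun x y v => h.mul_apply x y v }
    have hmod := R.2.card_modEq_card_fixedPoints V
    have h1 : MulAction.fixedPoints (R : Subgroup M) V = {0} := by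
      ext v
      rw [MulAction.mem_fixedPoints, Set.mem_singleton_iff]
      constructor
      · intro hv
        have : v ∈ W := fun x hx => hv ⟨x, hx⟩
        rwa [hW, Submodule.mem_bot] at this
      · rintro rfl x
        exact map_zero _
    have h0 : Nat.card ({0} : Set V) = 1 := by simp
    rw [h1, h0] at hmod
    have h2 : r ∣ Nat.card V := by
      obtain ⟨v, hv⟩ := _root_.exists_ne (0 : V)
      have h3 : addOrderOf v = r := by
        apply addOrderOf_eq_prime _ hv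
        rw [← Nat.cast_smul_eq_nsmul (ZMod r), ZMod.natCast_self, zero_smul]
      rw [← h3]
      exact addOrderOf_dvd_natCard v
    have h3 : 0 ≡ 1 [MOD r] := ((Nat.modEq_zero_iff_dvd.2 h2).symm).trans hmod
    have h4 := (Nat.modEq_zero_iff_dvd.1 h3.symm)
    exact hr.out.one_lt.ne' (Nat.dvd_one.1 h4)
  rcases h.irr W hWinv with h1 | h1
  · exact hW0 h1
  · apply hR1
    rw [eq_bot_iff]
    intro x hx
    rw [Subgroup.mem_bot]
    refine h.ext fun v => ?_
    rw [h.one_apply]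
    have : v ∈ W := by rw [h1]; trivial
    exact this x hx

/-- the subgroup of the scalars -/
def Sc : Subgroup M where
  carrier := {x | ∃ c : ZMod r, ∀ v, ρ x v = c • v}
  one_mem' := ⟨1, fun v => by rw [h.one_apply, one_smul]⟩
  mul_mem' := by
    rintro x y ⟨c, hc⟩ ⟨d, hd⟩
    exact ⟨c * d, fun v => by rw [h.mul_apply, hd, map_smul, hc, smul_smul, mul_comm]⟩
  inv_mem' := by
    rintro x ⟨c, hc⟩
    by_cases hc0 : c = 0
    · refine ⟨0, fun v => ?_⟩
      have h1 : v = 0 := by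
        have := hc v
        rw [hc0, zero_smul] at this
        rw [← h.inv_apply x v, this, map_zero]
      rw [h1, map_zero, smul_zero]
    · refine ⟨c⁻¹, fun v => ?_⟩
      have h1 := hc (ρ x⁻¹ v)
      rw [h.apply_inv] at h1
      calc ρ x⁻¹ v = (c⁻¹ * c) • ρ x⁻¹ v := by rw [inv_mul_cancel₀ hc0, one_smul]
        _ = c⁻¹ • v := by rw [mul_smul, ← h1]

theorem mem_Sc {x : M} : x ∈ h.Sc ↔ ∃ c : ZMod r, ∀ v, ρ x v = c • v := Iff.rfl

theorem Sc_comm {x : M} (hx : x ∈ h.Sc) (y : M) : x * y = y * x := by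
  obtain ⟨c, hc⟩ := hx
  refine h.ext fun v => ?_
  rw [h.mul_apply, h.mul_apply, hc, hc, map_smul]

theorem Sc_normal : h.Sc.Normal := by
  constructor
  intro x hx g
  have : g * x * g⁻¹ = x := by rw [← h.Sc_comm hx g]; group
  rw [this]; exact hx

/-- a non-scalar element of prime power order and a normal subgroup generated by it and scalars -/
theorem exists_elt [Finite M] (hSc : h.Sc ≠ ⊤) : ∃ (p : ℕ) (a : M), p.Prime ∧ p ∣ Nat.card M ∧
    (∃ e : ℕ, orderOf a = p ^ e) ∧ a ∉ h.Sc ∧ ∀ g : M, ∃ (i : ℕ), ∃ z ∈ h.Sc, g * a * g⁻¹ = a ^ i * z := by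
  have hn := h.Sc_normal
  have : Nontrivial (M ⧸ h.Sc) := QuotientGroup.nontrivial_iff.2 hSc
  obtain ⟨N, hN, hNp⟩ := SupersolvableBasic.exists_normal_prime_card (SupersolvableBasic.quotient h.ss h.Sc)
  obtain ⟨p, hp⟩ : ∃ p, p = Nat.card N := ⟨_, rfl⟩
  rw [← hp] at hNp
  haveI := Fact.mk hNp
  obtain ⟨b, hb⟩ : ∃ b : M, (b : M ⧸ h.Sc) ∈ N ∧ (b : M ⧸ h.Sc) ≠ 1 := by
    have h1 : N ≠ ⊥ := by
      rintro rfl
      rw [Subgroup.card_bot] at hp
      exact hNp.one_lt.ne hp.symm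
    obtain ⟨⟨y, hy⟩, hy1⟩ := N.ne_bot_iff_exists_ne_one.1 h1
    obtain ⟨b, rfl⟩ := QuotientGroup.mk_surjective y
    exact ⟨b, hy, fun h2 => hy1 (Subtype.ext h2)⟩
  obtain ⟨hbN, hb1⟩ := hb
  have hbp : orderOf (b : M ⧸ h.Sc) = p := by
    have h1 : (b : M ⧸ h.Sc) ^ p = 1 := by
      have := pow_card_eq_one' (x := (⟨_, hbN⟩ : N))
      rw [← hp] at this
      exact congrArg Subtype.val this
    exact orderOf_eq_prime h1 hb1
  -- the p-part of `b`
  have hob : orderOf b ≠ 0 := (orderOf_pos b).ne'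
  obtain ⟨e, m, hm, hem⟩ := Nat.exists_eq_pow_mul_and_not_dvd hob p hNp.ne_one
  have hm0 : m ≠ 0 := by
    rintro rfl
    exact hm (dvd_zero p)
  have hcop : Nat.Coprime m p := ((Nat.Prime.coprime_iff_not_dvd hNp).2 hm).symm
  have ha1 : orderOf ((b : M ⧸ h.Sc) ^ m) = p := by
    rw [Nat.Coprime.orderOf_pow (by rw [hbp]; exact hcop.symm), hbp]
  refine ⟨p, b ^ m, hNp, ?_, ⟨e, ?_⟩, ?_, ?_⟩
  · rw [← hbp]
    exact (orderOf_map_dvd (QuotientGroup.mk' h.Sc) b).trans (orderOf_dvd_natCard b)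
  · rw [orderOf_pow_of_dvd hm0 (by rw [hem]; exact dvd_mul_left _ _), hem, Nat.mul_div_cancel _ (by omega)]
  · intro ha
    have h1 : ((b ^ m : M) : M ⧸ h.Sc) = 1 := (QuotientGroup.eq_one_iff _).2 ha
    rw [QuotientGroup.mk_pow] at h1
    rw [h1, orderOf_one] at ha1
    exact hNp.one_lt.ne ha1
  · intro g
    have hgN : ((g * b ^ m * g⁻¹ : M) : M ⧸ h.Sc) ∈ N := by
      rw [QuotientGroup.mk_mul, QuotientGroup.mk_mul, QuotientGroup.mk_pow, QuotientGroup.mk_inv]
      exact hN.conj_mem _ (N.pow_mem hbN m) _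
    -- `N` is generated by the image of `b ^ m`
    have hz : Subgroup.zpowers ((b : M ⧸ h.Sc) ^ m) = N := by
      apply Subgroup.eq_of_le_of_card_ge
      · rw [Subgroup.zpowers_le]; exact N.pow_mem hbN m
      · rw [Nat.card_zpowers, ha1, hp]
    rw [← hz] at hgN
    obtain ⟨i, hi⟩ : ∃ i : ℕ, ((b : M ⧸ h.Sc) ^ m) ^ i = ((g * b ^ m * g⁻¹ : M) : M ⧸ h.Sc) :=
      mem_powers_iff_mem_zpowers.2 hgN
    refine ⟨i, (b ^ m) ^ (-(i : ℤ)) * (g * b ^ m * g⁻¹), ?_, ?_⟩
    · rw [← QuotientGroup.eq_one_iff, QuotientGroup.mk_mul, ← hi, QuotientGroup.mk_zpow, QuotientGroup.mk_pow,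
        zpow_neg, zpow_natCast, inv_mul_cancel]
    · rw [zpow_neg, zpow_natCast, mul_inv_cancel_left]

theorem eigen_cases {x : M} {l : ZMod r} (hl : QS (ρ x) l) {c : ZMod r} {v : V} (hv : ρ x v = c • v)
    (hv0 : v ≠ 0) : c = 1 ∨ c = l := by
  have h1 := hl v
  rw [hv, map_sub, map_smul, hv] at h1
  have h2 : ((c - 1) * (c - l)) • v = 0 := by
    have e : ((c - 1) * (c - l)) • v = (c • c • v - c • v) - l • (c • v - v) := by
      module
    rw [e, h1, sub_self]
  rcases smul_eq_zero.1 h2 with h3 | h3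
  · rcases mul_eq_zero.1 h3 with h4 | h4
    · exact Or.inl (sub_eq_zero.1 h4)
    · exact Or.inr (sub_eq_zero.1 h4)
  · exact absurd h3 hv0

/-- decomposition into eigenvectors -/
theorem exists_decomp {x : M} {l : ZMod r} (hl : QS (ρ x) l) (hl1 : l ≠ 1) (v : V) :
    ∃ w u, ρ x w = w ∧ ρ x u = l • u ∧ v = w + u := by
  have h1 := hl v
  rw [map_sub] at h1
  have h0 : 1 - l ≠ 0 := sub_ne_zero.2 (Ne.symm hl1)
  refine ⟨(1 - l)⁻¹ • (ρ x v - l • v), -((1 - l)⁻¹ • (ρ x v - v)), ?_, ?_, ?_⟩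
  · rw [map_smul, map_sub, map_smul]
    congr 1
    have : ρ x (ρ x v) = ρ x v + l • (ρ x v - v) := by rw [← h1]; abel
    rw [this]; module
  · rw [map_neg, map_smul, map_sub, h1]; module
  · have : v = ((1 - l)⁻¹ * (1 - l)) • v := by rw [inv_mul_cancel₀ h0, one_smul]
    nth_rewrite 1 [this]
    module

theorem scalar [Finite M] [Finite V] (x : M) : ∃ c : ZMod r, ∀ v, ρ x v = c • v := by
  rcases subsingleton_or_nontrivial V with hV | hV
  · exact ⟨1, fun v => Subsingleton.elim _ _⟩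
  by_contra hx
  have hSc : h.Sc ≠ ⊤ := by
    intro h1
    apply hx
    have : x ∈ h.Sc := by rw [h1]; trivial
    exact this
  obtain ⟨p, a, hp, hpM, ⟨e, he⟩, haS, hconj⟩ := h.exists_elt hSc
  have hpr : p ≠ r := by
    rintro rfl
    exact h.not_dvd_card hpM
  have haPE : PE r a := ⟨p, hp, hpr, e, he⟩
  obtain ⟨l, hl⟩ := h.qs a haPE
  have ha1 : a ≠ 1 := by
    rintro rfl
    exact haS (h.Sc).one_mem
  have hl1 := h.ne_one ha1 haPE hl
  obtain ⟨u₀, hu₀, hu₀a⟩ : ∃ u₀, u₀ ≠ 0 ∧ ρ a u₀ = l • u₀ := by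
    obtain ⟨v, hv⟩ := h.exists_ne ha1
    exact ⟨_, hv, hl v⟩
  obtain ⟨w₀, hw₀, hw₀a⟩ : ∃ w₀, w₀ ≠ 0 ∧ ρ a w₀ = w₀ := by
    by_contra hno
    push Not at hno
    apply haS
    refine ⟨l, fun v => ?_⟩
    obtain ⟨w, u, hw, hu, rfl⟩ := h.exists_decomp hl hl1 v
    have : w = 0 := by
      by_contra hw0
      exact hno w hw0 hw
    rw [this, zero_add, hu]
  have hl0 : l ≠ 0 := by
    rintro rfl
    rw [zero_smul] at hu₀a
    exact h.ne_zero hu₀ hu₀a
  -- conjugates of `a`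
  have hpowW : ∀ (i : ℕ) (w : V), ρ a w = w → ρ (a ^ i) w = w := by
    intro i w hw
    have := h.pow_eigen (l := 1) (x := a) (v := w) (by rw [one_smul]; exact hw) i
    rwa [one_pow, one_smul] at this
  have key : ∀ g : M, (∀ w, ρ a w = w → ρ a (ρ g⁻¹ w) = ρ g⁻¹ w) ∨
      ∃ z ∈ h.Sc, (∀ v, ρ z v = l • v) ∧ (∀ w, ρ a w = w → ρ a (ρ g⁻¹ w) = l • ρ g⁻¹ w) ∧
        ∃ i : ℕ, ∀ u, ρ a u = l • u → ρ a (ρ g⁻¹ u) = l ^ i • ρ g⁻¹ u := by
    intro g
    obtain ⟨i, z, hz, hgz⟩ := hconj g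
    obtain ⟨c, hc⟩ := hz
    have h1 : ∀ v, ρ a (ρ g⁻¹ v) = ρ g⁻¹ (ρ (g * a * g⁻¹) v) := by
      intro v
      rw [← h.mul_apply, ← h.mul_apply]; congr 2; group
    have h2 : ∀ w, ρ a w = w → ρ a (ρ g⁻¹ w) = c • ρ g⁻¹ w := by
      intro w hw
      rw [h1, hgz, h.mul_apply, hc, map_smul, hpowW i w hw, map_smul]
    rcases h.eigen_cases hl (h2 w₀ hw₀a) (h.ne_zero hw₀) with h3 | h3
    · left
      intro w hw
      rw [h2 w hw, h3, one_smul]
    · right
      subst h3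
      refine ⟨z, ⟨c, hc⟩, hc, h2, i + 1, ?_⟩
      intro u hu
      rw [h1, hgz, h.mul_apply, hc, map_smul, h.pow_eigen hu, map_smul, map_smul, smul_smul, pow_succ']
  -- some conjugate moves `W` to `U`
  obtain ⟨g, z, hzS, hz, hgW, i, hgU⟩ : ∃ g : M, ∃ z ∈ h.Sc, (∀ v, ρ z v = l • v) ∧
      (∀ w, ρ a w = w → ρ a (ρ g⁻¹ w) = l • ρ g⁻¹ w) ∧
        ∃ i : ℕ, ∀ u, ρ a u = l • u → ρ a (ρ g⁻¹ u) = l ^ i • ρ g⁻¹ u := by
    by_contra hno
    let W : Submodule (ZMod r) V :=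
      { carrier := {w | ρ a w = w}
        add_mem' := fun {x y} hx hy => by
          show ρ a (x + y) = x + y
          rw [map_add, hx, hy]
        zero_mem' := map_zero _
        smul_mem' := fun c v hv => by
          show ρ a (c • v) = c • v
          rw [map_smul, hv] }
    have memW : ∀ w, w ∈ W ↔ ρ a w = w := fun _ => Iff.rfl
    rcases h.irr W (by
      intro y w hw
      rw [memW] at hw ⊢
      rcases key y⁻¹ with h1 | h1
      · have := h1 w hw
        rwa [inv_inv] at this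
      · exact absurd ⟨y⁻¹, h1⟩ hno) with h1 | h1
    · have : w₀ ∈ W := hw₀a
      rw [h1, Submodule.mem_bot] at this
      exact hw₀ this
    · have : u₀ ∈ W := by rw [h1]; trivial
      have h2 : (1 - l) • u₀ = 0 := by
        rw [sub_smul, one_smul, ← hu₀a, (memW _).1 this, sub_self]
      rcases smul_eq_zero.1 h2 with h3 | h3
      · exact hl1 (sub_eq_zero.1 h3).symm
      · exact hu₀ h3
  have hzinv : ∀ v, ρ z⁻¹ v = l⁻¹ • v := by
    intro v
    have h1 : v = l • ρ z⁻¹ v := by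
      have := hz (ρ z⁻¹ v)
      rw [h.apply_inv] at this
      exact this
    calc ρ z⁻¹ v = (l⁻¹ * l) • ρ z⁻¹ v := by rw [inv_mul_cancel₀ hl0, one_smul]
      _ = l⁻¹ • v := by rw [mul_smul, ← h1]
  -- `λ ^ 2 = 1`
  have hlpow : l ^ p ^ e = 1 := by
    have h1 := h.pow_eigen hu₀a (p ^ e)
    rw [← he, pow_orderOf_eq_one, h.one_apply, he] at h1
    have h3 : (1 - l ^ p ^ e) • u₀ = 0 := by
      rw [sub_smul, one_smul, ← h1, sub_self]
    rcases smul_eq_zero.1 h3 with h4 | h4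
    · exact (sub_eq_zero.1 h4).symm
    · exact absurd h4 hu₀
  have hzpow : z ^ p ^ e = 1 := by
    refine h.ext fun v => ?_
    rw [h.pow_eigen (hz v), hlpow, one_smul, h.one_apply]
  have hl2 : l * l = 1 := by
    have hcom : Commute (a * a) z⁻¹ := by
      have h1 : Commute z a := h.Sc_comm hzS a
      exact ((h1.mul_right h1).inv_left).symm
    have hy : (a * a * z⁻¹) ^ p ^ e = 1 := by
      rw [hcom.mul_pow, inv_pow, hzpow, inv_one, mul_one, (Commute.refl a).mul_pow, ← he, pow_orderOf_eq_one,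
        mul_one]
    obtain ⟨j, -, hj⟩ := (Nat.dvd_prime_pow hp).1 (orderOf_dvd_of_pow_eq_one hy)
    obtain ⟨n, hn⟩ := h.qs (a * a * z⁻¹) ⟨p, hp, hpr, j, hj⟩
    have h1 : ρ (a * a * z⁻¹) w₀ = l⁻¹ • w₀ := by
      rw [h.mul_apply, hzinv, h.mul_apply, map_smul, map_smul, hw₀a, hw₀a]
    have h2 : ρ (a * a * z⁻¹) u₀ = l • u₀ := by
      rw [h.mul_apply, hzinv, h.mul_apply, map_smul, map_smul, hu₀a, map_smul, hu₀a, smul_smul,
        inv_mul_cancel₀ hl0, one_smul]
    have h3 : l⁻¹ = n := (h.eigen_cases hn h1 hw₀).resolve_left (fun h4 => hl1 (by rw [← inv_inv l, h4, inv_one]))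
    have h4 : l = n := (h.eigen_cases hn h2 hu₀).resolve_left hl1
    rw [← h3] at h4
    nth_rewrite 1 [h4]
    exact inv_mul_cancel₀ hl0
  have hlm : l = -1 := by
    have : (l - 1) * (l + 1) = 0 := by linear_combination hl2
    rcases mul_eq_zero.1 this with h1 | h1
    · exact absurd (sub_eq_zero.1 h1) hl1
    · linear_combination h1
  have ha2 : a * a = 1 := by
    refine h.ext fun v => ?_
    obtain ⟨w, u, hw, hu, rfl⟩ := h.exists_decomp hl hl1 v
    rw [h.mul_apply, map_add, hw, hu, map_add, hw, map_smul, hu, smul_smul, hl2, one_smul, h.one_apply]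
  have h2r : (2 : ZMod r) ≠ 0 := by
    intro h2
    apply hl1
    rw [hlm]
    linear_combination -h2
  have hr2 : 2 ≠ r := by
    rintro rfl
    exact h2r (by exact_mod_cast ZMod.natCast_self 2)
  -- swapping elements
  have hsw : ∃ t : M, (∀ w, ρ a w = w → ρ a (ρ t w) = l • ρ t w) ∧
      (∀ u, ρ a u = l • u → ρ a (ρ t u) = ρ t u) := by
    refine ⟨g⁻¹, hgW, ?_⟩
    rcases Nat.even_or_odd' i with ⟨k, hk | hk⟩
    · intro u hu
      rw [hgU u hu, hk, pow_mul, pow_two, hl2, one_pow, one_smul]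
    · exfalso
      have h1 : ∀ u, ρ a u = l • u → ρ a (ρ g⁻¹ u) = l • ρ g⁻¹ u := by
        intro u hu
        rw [hgU u hu, hk, pow_succ, pow_mul, pow_two, hl2, one_pow, one_mul]
      have h2 : ∀ v, ρ a (ρ g⁻¹ v) = l • ρ g⁻¹ v := by
        intro v
        obtain ⟨w, u, hw, hu, rfl⟩ := h.exists_decomp hl hl1 v
        rw [map_add, map_add, hgW w hw, h1 u hu, smul_add]
      have h3 := h2 (ρ g w₀)
      rw [h.inv_apply, hw₀a] at h3
      have h4 : (1 - l) • w₀ = 0 := by rw [sub_smul, one_smul, ← h3, sub_self]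
      rcases smul_eq_zero.1 h4 with h5 | h5
      · exact hl1 (sub_eq_zero.1 h5).symm
      · exact hw₀ h5
  obtain ⟨t₀, ht₀⟩ := hsw
  -- an odd power is a 2-element
  have hodd : ∀ k : ℕ, (∀ w, ρ a w = w → ρ a (ρ (t₀ ^ (2 * k + 1)) w) = l • ρ (t₀ ^ (2 * k + 1)) w) ∧
      (∀ u, ρ a u = l • u → ρ a (ρ (t₀ ^ (2 * k + 1)) u) = ρ (t₀ ^ (2 * k + 1)) u) := by
    intro k
    induction k with
    | zero => rw [mul_zero, zero_add, pow_one]; exact ht₀
    | succ k ih =>
      have e1 : t₀ ^ (2 * (k + 1) + 1) = t₀ * (t₀ * t₀ ^ (2 * k + 1)) := by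
        rw [← pow_succ', ← pow_succ']; congr 1
      rw [e1]
      constructor
      · intro w hw
        rw [h.mul_apply, h.mul_apply]
        exact ht₀.1 _ (ht₀.2 _ (ih.1 w hw))
      · intro u hu
        rw [h.mul_apply, h.mul_apply]
        exact ht₀.2 _ (ht₀.1 _ (ih.2 u hu))
  obtain ⟨t, ⟨f, hf⟩, htW, htU⟩ : ∃ t : M, (∃ f : ℕ, orderOf t = 2 ^ f) ∧
      (∀ w, ρ a w = w → ρ a (ρ t w) = l • ρ t w) ∧ (∀ u, ρ a u = l • u → ρ a (ρ t u) = ρ t u) := by
    obtain ⟨f, m, hm, hfm⟩ := Nat.exists_eq_pow_mul_and_not_dvd (orderOf_pos t₀).ne' 2 (by norm_num)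
    have hm0 : m ≠ 0 := by
      rintro rfl
      exact hm (dvd_zero 2)
    obtain ⟨k, hk⟩ : ∃ k, m = 2 * k + 1 := ⟨m / 2, by omega⟩
    refine ⟨t₀ ^ m, ⟨f, ?_⟩, ?_, ?_⟩
    · rw [orderOf_pow_of_dvd hm0 (by rw [hfm]; exact dvd_mul_left _ _), hfm, Nat.mul_div_cancel _ (by omega)]
    · rw [hk]; exact (hodd k).1
    · rw [hk]; exact (hodd k).2
  -- swapping 2-elements are involutions
  have hinv : ∀ t : M, (∃ f : ℕ, orderOf t = 2 ^ f) →
      (∀ w, ρ a w = w → ρ a (ρ t w) = l • ρ t w) → (∀ u, ρ a u = l • u → ρ a (ρ t u) = ρ t u) →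
        ∀ v, ρ t (ρ t v) = v := by
    rintro t ⟨f, hf⟩ htW htU
    obtain ⟨n, hn⟩ := h.qs t ⟨2, Nat.prime_two, hr2, f, hf⟩
    have h1 := hn w₀
    rw [map_sub] at h1
    -- `(1 + n) t w₀ = t t w₀ + n w₀`
    have h2 : (1 + n) • ρ t w₀ = ρ t (ρ t w₀) + n • w₀ := by
      have : ρ t (ρ t w₀) = ρ t w₀ + n • (ρ t w₀ - w₀) := by rw [← h1]; abel
      rw [this]; module
    have h3 : ρ a ((1 + n) • ρ t w₀) = (1 + n) • ρ t w₀ := by
      rw [h2, map_add, map_smul, hw₀a, htU _ (htW w₀ hw₀a)]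
    rw [map_smul, htW w₀ hw₀a] at h3
    have h4 : ((1 + n) * (l - 1)) • ρ t w₀ = 0 := by
      have e1 : ((1 + n) * (l - 1)) • ρ t w₀ = (1 + n) • l • ρ t w₀ - (1 + n) • ρ t w₀ := by module
      rw [e1, h3, sub_self]
    have h5 : n = -1 := by
      rcases smul_eq_zero.1 h4 with h5 | h5
      · rcases mul_eq_zero.1 h5 with h6 | h6
        · linear_combination h6
        · exact absurd (sub_eq_zero.1 h6) hl1
      · exact absurd h5 (h.ne_zero hw₀)
    intro v
    have h6 := hn v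
    rw [map_sub, h5, neg_one_smul] at h6
    have : ρ t (ρ t v) = (ρ t (ρ t v) - ρ t v) + ρ t v := by abel
    rw [this, h6]; abel
  have htt := hinv t ⟨f, hf⟩ htW htU
  have hatW : ∀ w, ρ a w = w → ρ a (ρ (a * t) w) = l • ρ (a * t) w := by
    intro w hw
    rw [h.mul_apply, htW w hw, map_smul, htW w hw]
  have hatU : ∀ u, ρ a u = l • u → ρ a (ρ (a * t) u) = ρ (a * t) u := by
    intro u hu
    rw [h.mul_apply, htU u hu, htU u hu]
  have hat2 : ∀ v, ρ (a * t) (ρ (a * t) v) = l • v := by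
    intro v
    obtain ⟨w, u, hw, hu, rfl⟩ := h.exists_decomp hl hl1 v
    have e1 : ρ (a * t) (ρ (a * t) w) = l • w := by
      rw [h.mul_apply a t w, htW w hw, map_smul, h.mul_apply, htt, hw]
    have e2 : ρ (a * t) (ρ (a * t) u) = l • u := by
      rw [h.mul_apply a t u, htU u hu, h.mul_apply, htt, hu]
    rw [map_add, map_add, e1, e2, smul_add]
  have hat4 : (a * t) ^ 2 ^ 2 = 1 := by
    refine h.ext fun v => ?_
    have e1 : (a * t) ^ 2 ^ 2 = (a * t) * ((a * t) * ((a * t) * (a * t))) := by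
      norm_num [pow_succ, mul_assoc]
    rw [e1, h.mul_apply (a * t) (a * t * (a * t * (a * t))), h.mul_apply (a * t) (a * t * (a * t)), hat2,
      h.mul_apply (a * t) (a * t), hat2, smul_smul, hl2, one_smul, h.one_apply]
  obtain ⟨f', -, hf'⟩ := (Nat.dvd_prime_pow Nat.prime_two).1 (orderOf_dvd_of_pow_eq_one hat4)
  have h1 := hinv (a * t) ⟨f', hf'⟩ hatW hatU w₀
  rw [hat2] at h1
  have h4 : (l - 1) • w₀ = 0 := by rw [sub_smul, one_smul, h1, sub_self]
  rcases smul_eq_zero.1 h4 with h5 | h5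
  · exact hl1 (sub_eq_zero.1 h5)
  · exact hw₀ h5

end Hyp

end Cfsg.Agent.H270.QuasiScalar
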