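import Mathlib
import Cfsg.Agent.H270.QuasiScalar
import Cfsg.Agent.SolvableStructure.CorefreeMaximal
import Cfsg.Agent.SolvableStructure.MinimalNormal
import Cfsg.Agent.SolvableStructure.MaxPrimeIndex
import Cfsg.Agent.S0072
import Cfsg.Agent.S0527
import Cfsg.Agent.S0528
import Cfsg.Agent.S0579
import Cfsg.Agent.Transfer.PNilpotentBasic

/-!
# The order condition on pairs of conjugates forces supersolvability
-/

set_option autoImplicit false
set_option linter.unusedSectionVars false
set_option linter.style.haveILetI false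

namespace Cfsg.Agent.H270.SSCond

open Subgroup Cfsg.Agent.SolvableStructure

universe u

/-- The condition. -/
def Cond (G : Type*) [Group G] : Prop :=
  ∀ (p q : ℕ), p.Prime → q.Prime → p ≠ q → ∀ (x g : G), (∃ a : ℕ, orderOf x = p ^ a) →
    (∃ b : ℕ, orderOf g = q ^ b) →
      ¬ q ^ 2 ∣ Nat.card ↥(Subgroup.zpowers x ⊔ Subgroup.zpowers (g * x * g⁻¹))

theorem Cond.subgroup {G : Type*} [Group G] (h : Cond G) (H : Subgroup G) : Cond H := by
  intro p q hp hq hpq x g hx hg hdvd
  refine h p q hp hq hpq (x : G) (g : G) (by simpa using hx) (by simpa using hg) ?_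
  have e : (zpowers x ⊔ zpowers (g * x * g⁻¹)).map H.subtype =
      zpowers (x : G) ⊔ zpowers ((g : G) * x * (g : G)⁻¹) := by
    rw [Subgroup.map_sup, MonoidHom.map_zpowers, MonoidHom.map_zpowers]; rfl
  rw [← e, Subgroup.card_map_of_injective H.subtype_injective]
  exact hdvd

theorem exists_lift {G K : Type*} [Group G] [Finite G] [Group K] (f : G →* K) (hf : Function.Surjective f)
    {p : ℕ} (hp : p.Prime) (y : K) (hy : ∃ a : ℕ, orderOf y = p ^ a) :
    ∃ x : G, f x = y ∧ ∃ a : ℕ, orderOf x = p ^ a := by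
  obtain ⟨a, ha⟩ := hy
  obtain ⟨x₀, rfl⟩ := hf y
  obtain ⟨e, m, hm, hem⟩ := Nat.exists_eq_pow_mul_and_not_dvd (orderOf_pos x₀).ne' p hp.ne_one
  have hcop : Nat.Coprime m (p ^ a) := ((Nat.Prime.coprime_iff_not_dvd hp).2 hm).symm.pow_right a
  obtain ⟨k, hk⟩ := exists_pow_eq_self_of_coprime (x := f x₀) (n := m) (by rw [ha]; exact hcop)
  refine ⟨x₀ ^ (m * k), ?_, ?_⟩
  · rw [map_pow, pow_mul]; exact hk
  · have h1 : (x₀ ^ (m * k)) ^ p ^ e = 1 := by
      rw [← pow_mul]
      have e1 : m * k * p ^ e = orderOf x₀ * k := by rw [hem]; ring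
      rw [e1, pow_mul, pow_orderOf_eq_one, one_pow]
    obtain ⟨j, -, hj⟩ := (Nat.dvd_prime_pow hp).1 (orderOf_dvd_of_pow_eq_one h1)
    exact ⟨j, hj⟩

theorem Cond.of_surjective {G K : Type*} [Group G] [Finite G] [Group K] (h : Cond G) (f : G →* K)
    (hf : Function.Surjective f) : Cond K := by
  intro p q hp hq hpq y k hy hk hdvd
  obtain ⟨x, rfl, hx⟩ := exists_lift f hf hp y hy
  obtain ⟨g, rfl, hg⟩ := exists_lift f hf hq k hk
  refine h p q hp hq hpq x g hx hg ?_
  have e : (zpowers x ⊔ zpowers (g * x * g⁻¹)).map f =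
      zpowers (f x) ⊔ zpowers (f g * f x * (f g)⁻¹) := by
    rw [Subgroup.map_sup, MonoidHom.map_zpowers, MonoidHom.map_zpowers, map_mul, map_mul, map_inv]
  rw [← e] at hdvd
  exact hdvd.trans (Subgroup.card_map_dvd _ f)

/-- Supersolvable groups have normal `p`-complements, `p` the smallest prime. -/
theorem hasNormalPComplement (n : ℕ) : ∀ {G : Type u} [Group G] [Finite G], Nat.card G = n →
    Cfsg.IsSupersolvable G → ∀ (p : ℕ) [Fact p.Prime], (∀ q : ℕ, q.Prime → q ∣ Nat.card G → p ≤ q) →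
      Cfsg.HasNormalPComplement p G := by
  induction n using Nat.strong_induction_on with
  | _ n ih =>
    intro G _ _ hn hss p hp hmin
    by_cases hpG : p ∣ Nat.card G
    swap
    · exact Cfsg.Agent.Transfer.PNilpotentBasic.hnc_of_coprime
        ((Nat.Prime.coprime_iff_not_dvd hp.out).2 hpG).symm
    have h1 : 1 < Nat.card G := by
      have h2 := Nat.le_of_dvd Nat.card_pos hpG
      have h3 := hp.out.two_le
      omega
    obtain ⟨s, hs, hsG, hmax⟩ := MaxPrimeIndex.exists_largest_prime h1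
    haveI := Fact.mk hs
    by_cases hsp : s = p
    · subst hsp
      apply Cfsg.Agent.Transfer.PNilpotentBasic.hnc_of_isPGroup
      have h2 : ∀ q : ℕ, q.Prime → q ∣ Nat.card G → q = s := fun q hq hqG =>
        le_antisymm (hmax q hq hqG) (hmin q hq hqG)
      have h3 := Nat.eq_prime_pow_of_unique_prime_dvd (n := Nat.card G) (by omega) (fun {d} hd hdG => h2 d hd hdG)
      exact IsPGroup.of_card h3
    · obtain ⟨Q⟩ : Nonempty (Sylow s G) := inferInstance
      have hQn : (Q : Subgroup G).Normal :=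
        HereditaryCLT.normal_sylow_largest (Nat.card G) le_rfl (fun H d hd =>
          SupersolvableBasic.exists_card_eq (SupersolvableBasic.subgroup hss H) hd) s hmax Q
      have hQ1 : (Q : Subgroup G) ≠ ⊥ := Q.ne_bot_of_dvd_card hsG
      apply Cfsg.Agent.Transfer.NormalPComplement.of_quotient (Q : Subgroup G)
      · obtain ⟨k, hk⟩ := IsPGroup.iff_card.1 Q.2
        rw [hk]
        exact Nat.Coprime.pow_left k ((Nat.coprime_primes hs hp.out).2 hsp)
      · refine ih (Nat.card (G ⧸ (Q : Subgroup G))) ?_ rfl (SupersolvableBasic.quotient hss _) p ?_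
        · have h2 := Subgroup.card_eq_card_quotient_mul_card_subgroup (Q : Subgroup G)
          have h3 : 1 < Nat.card (Q : Subgroup G) := by
            have := (Subgroup.one_lt_card_iff_ne_bot (H := (Q : Subgroup G))).2 hQ1
            exact this
          rw [← hn, h2]
          have h4 : 0 < Nat.card (G ⧸ (Q : Subgroup G)) := Nat.card_pos
          nlinarith
        · intro q hq hqG
          exact hmin q hq (hqG.trans (Subgroup.card_quotient_dvd_card _))

/-- The quasi-scalar condition: `x [x, g] x⁻¹` is a power of `[x, g]`. -/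
theorem Cond.exists_pow {G : Type*} [Group G] [Finite G] (h : Cond G) {r : ℕ} (hr : r.Prime) {N : Subgroup G}
    (hN : N.Normal) (hNr : ∀ a ∈ N, a ^ r = 1) {x g : G} {p : ℕ} (hp : p.Prime) (hpr : p ≠ r)
    (hx : ∃ a : ℕ, orderOf x = p ^ a) (hg : g ∈ N) :
    ∃ k : ℕ, x * (x * g * x⁻¹ * g⁻¹) * x⁻¹ = (x * g * x⁻¹ * g⁻¹) ^ k := by
  haveI := Fact.mk hr
  obtain ⟨w, hw⟩ : ∃ w, w = x * g * x⁻¹ * g⁻¹ := ⟨_, rfl⟩
  rw [← hw]
  by_cases hw1 : w = 1
  · exact ⟨0, by rw [hw1]; simp⟩
  have hwN : w ∈ N := by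
    rw [hw]; exact N.mul_mem (hN.conj_mem g hg x) (N.inv_mem hg)
  have hg' : ∃ b : ℕ, orderOf g = r ^ b := by
    obtain ⟨j, -, hj⟩ := (Nat.dvd_prime_pow hr).1 (orderOf_dvd_of_pow_eq_one (n := r ^ 1) (by rw [pow_one]; exact hNr g hg))
    exact ⟨j, hj⟩
  have h1 := h p r hp hr hpr x g hx hg'
  set K := zpowers x ⊔ zpowers (g * x * g⁻¹) with hK
  have hxK : x ∈ K := mem_sup_left (mem_zpowers x)
  have hwK : w ∈ K := by
    have h2 : g * x * g⁻¹ ∈ K := mem_sup_right (mem_zpowers _)
    have e : w = x * (g * x * g⁻¹)⁻¹ := by rw [hw]; group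
    rw [e]; exact K.mul_mem hxK (K.inv_mem h2)
  have hxwK : x * w * x⁻¹ ∈ K := K.mul_mem (K.mul_mem hxK hwK) (K.inv_mem hxK)
  have hxwN : x * w * x⁻¹ ∈ N := hN.conj_mem w hwN x
  have hrg : IsPGroup r (N ⊓ K : Subgroup G) := by
    intro y
    refine ⟨1, ?_⟩
    rw [pow_one]
    exact Subtype.ext (hNr _ y.2.1)
  obtain ⟨j, hj⟩ := IsPGroup.iff_card.1 hrg
  have hj1 : j ≤ 1 := by
    by_contra hj2
    apply h1
    have h3 : r ^ 2 ∣ Nat.card ↥(N ⊓ K) := by
      rw [hj]; exact pow_dvd_pow r (by omega)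
    exact h3.trans (Subgroup.card_dvd_of_le inf_le_right)
  have hw2 : orderOf w = r := orderOf_eq_prime (hNr w hwN) hw1
  have h4 : zpowers w = N ⊓ K := by
    apply Subgroup.eq_of_le_of_card_ge
    · rw [zpowers_le]; exact ⟨hwN, hwK⟩
    · rw [Nat.card_zpowers, hw2, hj]
      calc r ^ j ≤ r ^ 1 := Nat.pow_le_pow_right hr.pos hj1
        _ = r := pow_one r
  have h5 : x * w * x⁻¹ ∈ zpowers w := by rw [h4]; exact ⟨hxwN, hxwK⟩
  obtain ⟨k, hk⟩ := mem_powers_iff_mem_zpowers.2 h5
  exact ⟨k, hk.symm⟩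

/-- uniform eigenvalue -/
theorem exists_uniform {r : ℕ} [Fact r.Prime] {V : Type*} [AddCommGroup V] [Module (ZMod r) V]
    (f : V →ₗ[ZMod r] V) (hf : ∀ v, ∃ c : ZMod r, f (f v - v) = c • (f v - v)) :
    ∃ c : ZMod r, QuasiScalar.QS f c := by
  by_cases h0 : ∀ v, f v - v = 0
  · exact ⟨0, fun v => by rw [h0 v, map_zero, smul_zero]⟩
  push Not at h0
  obtain ⟨v₀, hv₀⟩ := h0
  obtain ⟨c, hc⟩ := hf v₀
  refine ⟨c, fun v => ?_⟩
  obtain ⟨c₁, hc₁⟩ := hf v
  obtain ⟨c₂, hc₂⟩ := hf (v₀ + v)
  obtain ⟨a, ha⟩ : ∃ a, a = f v₀ - v₀ := ⟨_, rfl⟩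
  obtain ⟨b, hb⟩ : ∃ b, b = f v - v := ⟨_, rfl⟩
  have e : f (v₀ + v) - (v₀ + v) = a + b := by rw [ha, hb, map_add]; abel
  rw [e, map_add] at hc₂
  rw [← hb] at hc₁ ⊢
  rw [← ha] at hc hv₀
  rw [hc, hc₁] at hc₂
  have h1 : (c - c₂) • a = (c₂ - c₁) • b := by
    have : (c - c₂) • a - (c₂ - c₁) • b = (c • a + c₁ • b) - c₂ • (a + b) := by module
    rw [hc₂, sub_self] at this
    exact sub_eq_zero.1 this
  by_cases h2 : c = c₂
  · rw [h2, sub_self, zero_smul] at h1
    rcases smul_eq_zero.1 h1.symm with h3 | h3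
    · rw [hc₁, h2, sub_eq_zero.1 h3]
    · rw [h3, map_zero, smul_zero]
  · have h3 : c - c₂ ≠ 0 := sub_ne_zero.2 h2
    by_cases h4 : b = 0
    · rw [h4, map_zero, smul_zero]
    have h5 : a = ((c - c₂)⁻¹ * (c₂ - c₁)) • b := by
      rw [mul_smul, ← h1, smul_smul, inv_mul_cancel₀ h3, one_smul]
    obtain ⟨t, ht⟩ : ∃ t, t = (c - c₂)⁻¹ * (c₂ - c₁) := ⟨_, rfl⟩
    rw [← ht] at h5
    have ht0 : t ≠ 0 := by
      rintro h6
      rw [h6, zero_smul] at h5
      exact hv₀ h5
    have h6 : b = t⁻¹ • a := by rw [h5, smul_smul, inv_mul_cancel₀ ht0, one_smul]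
    rw [h6, map_smul, hc, smul_comm]

/-- The multiplicative form of `QuasiScalar.Hyp.scalar`. -/
theorem scalar_of_comm {A : Type u} [CommGroup A] [Finite A] {M : Type u} [Group M] [Finite M]
    (φ : M →* MulAut A) {r : ℕ} [Fact r.Prime] (hA : ∀ a : A, a ^ r = 1) (inj : ∀ x, φ x = 1 → x = 1)
    (irr : ∀ K : Subgroup A, (∀ x, ∀ a ∈ K, φ x a ∈ K) → K = ⊥ ∨ K = ⊤)
    (qs : ∀ x : M, QuasiScalar.PE r x → ∀ a : A, ∃ k : ℕ, φ x (φ x a * a⁻¹) = (φ x a * a⁻¹) ^ k)
    (ss : Cfsg.IsSupersolvable M) (x : M) : ∃ k : ℕ, ∀ a : A, φ x a = a ^ k := by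
  letI : Module (ZMod r) (Additive A) := AddCommGroup.zmodModule (n := r) (fun x => hA (Additive.toMul x))
  let ρ : M →* (Additive A →ₗ[ZMod r] Additive A) :=
    { toFun := fun x => (MonoidHom.toAdditive (φ x).toMonoidHom).toZModLinearMap r
      map_one' := by
        refine LinearMap.ext fun v => ?_
        show Additive.ofMul (φ 1 (Additive.toMul v)) = v
        rw [map_one]; rfl
      map_mul' := by
        intro x y
        refine LinearMap.ext fun v => ?_
        show Additive.ofMul (φ (x * y) (Additive.toMul v)) = Additive.ofMul (φ x (φ y (Additive.toMul v)))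
        rw [map_mul]; rfl }
  have hρ : ∀ (x : M) (v : Additive A), ρ x v = Additive.ofMul (φ x (Additive.toMul v)) := fun _ _ => rfl
  have hyp : QuasiScalar.Hyp ρ := by
    refine ⟨?_, ?_, ?_, ss⟩
    · intro x hx
      apply inj
      ext a
      have := hρ x (Additive.ofMul a)
      rw [hx] at this
      exact this.symm
    · intro W hW
      let K : Subgroup A :=
        { carrier := {a | Additive.ofMul a ∈ W}
          one_mem' := W.zero_mem
          mul_mem' := fun ha hb => W.add_mem ha hb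
          inv_mem' := fun ha => W.neg_mem ha }
      have memK : ∀ a, a ∈ K ↔ Additive.ofMul a ∈ W := fun _ => Iff.rfl
      rcases irr K (fun x a ha => hW x _ ha) with h1 | h1
      · left
        rw [eq_bot_iff]
        intro w hw
        have h2 : Additive.toMul w ∈ K := hw
        rw [h1, mem_bot] at h2
        exact h2
      · right
        rw [eq_top_iff]
        intro w _
        have h2 : Additive.toMul w ∈ K := by rw [h1]; trivial
        exact h2
    · intro x hx
      apply exists_uniform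
      intro v
      obtain ⟨k, hk⟩ := qs x hx (Additive.toMul v)
      refine ⟨(k : ZMod r), ?_⟩
      rw [Nat.cast_smul_eq_nsmul, hρ, hρ]
      have e : Additive.ofMul (φ x (Additive.toMul v)) - v = Additive.ofMul (φ x (Additive.toMul v) * (Additive.toMul v)⁻¹) := by
        rw [ofMul_mul, ofMul_inv, ofMul_toMul, sub_eq_add_neg]
      rw [e, toMul_ofMul, hk, ofMul_pow]
  obtain ⟨c, hc⟩ := hyp.scalar x
  obtain ⟨k, rfl⟩ := ZMod.natCast_zmod_surjective c
  refine ⟨k, fun a => ?_⟩
  have h1 := hc (Additive.ofMul a)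
  rw [Nat.cast_smul_eq_nsmul, hρ, ← ofMul_pow] at h1
  exact h1

/-- The core of the proof: a core-free maximal subgroup `M` which is supersolvable. -/
theorem core {G : Type u} [Group G] [Finite G] (h : Cond G) {M : Subgroup G} (hM : IsCoatom M)
    (hMc : M.normalCore = ⊥) (hMss : Cfsg.IsSupersolvable M) {N : Subgroup G} (hN : N.Normal) (hN1 : N ≠ ⊥)
    (hmin : ∀ K : Subgroup G, K.Normal → K ≤ N → K = ⊥ ∨ K = N) (hcomm : ∀ a ∈ N, ∀ b ∈ N, a * b = b * a)
    {r : ℕ} (hr : r.Prime) (hNr : ∀ a ∈ N, a ^ r = 1) : IsCyclic N := by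
  haveI := Fact.mk hr
  have hNab : IsMulCommutative N := ⟨⟨fun a b => Subtype.ext (hcomm a a.2 b b.2)⟩⟩
  have hsup := CorefreeMaximal.sup_eq_top hM hMc hN hN1
  have hcent := CorefreeMaximal.centralizer_eq hM hMc hN hNab hN1
  have hinf := CorefreeMaximal.inf_eq_bot hM hMc hN hNab hN1
  letI : CommGroup N := { (inferInstance : Group N) with mul_comm := fun a b => Subtype.ext (hcomm a a.2 b b.2) }
  let φ : M →* MulAut N := (MulAut.conjNormal (H := N)).comp M.subtype
  have hφ : ∀ (x : M) (n : N), ((φ x n : N) : G) = (x : G) * n * (x : G)⁻¹ := fun _ _ => rfl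
  have hsc : ∀ x : M, ∃ k : ℕ, ∀ a : N, φ x a = a ^ k := by
    refine scalar_of_comm φ (r := r) (fun a => Subtype.ext (hNr a a.2)) ?_ ?_ ?_ hMss
    · intro x hx
      have h1 : (x : G) ∈ centralizer (N : Set G) := by
        rw [mem_centralizer_iff]
        intro n hn
        have h2 := hφ x ⟨n, hn⟩
        rw [hx] at h2
        have h3 : n = (x : G) * n * (x : G)⁻¹ := h2
        nth_rewrite 1 [h3]
        group
      rw [hcent] at h1
      have h2 : (x : G) ∈ N ⊓ M := ⟨h1, x.2⟩
      rw [hinf, mem_bot] at h2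
      exact Subtype.ext h2
    · intro K' hK'
      have hKn : (K'.map N.subtype).Normal := by
        rw [← normalizer_eq_top_iff, eq_top_iff, ← hsup, sup_le_iff]
        have hsub : ∀ L : Subgroup G, (∀ g ∈ L, ∀ k ∈ K'.map N.subtype, g * k * g⁻¹ ∈ K'.map N.subtype) →
            L ≤ normalizer (K'.map N.subtype : Set G) := by
          intro L hL g hg
          rw [mem_normalizer_iff]
          intro k
          constructor
          · exact hL g hg k
          · intro hk
            have := hL g⁻¹ (inv_mem hg) _ hk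
            simpa [mul_assoc] using this
        constructor
        · apply hsub
          rintro g hg _ ⟨k, hk, rfl⟩
          have e : g * N.subtype k * g⁻¹ = N.subtype k := by
            show g * (k : G) * g⁻¹ = (k : G)
            rw [hcomm g hg _ k.2, mul_inv_cancel_right]
          rw [e]; exact ⟨k, hk, rfl⟩
        · apply hsub
          rintro g hg _ ⟨k, hk, rfl⟩
          exact ⟨_, hK' ⟨g, hg⟩ k hk, rfl⟩
      rcases hmin _ hKn (map_subtype_le K') with h1 | h1
      · left
        rwa [Subgroup.map_eq_bot_iff_of_injective _ N.subtype_injective] at h1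
      · right
        rw [eq_top_iff]
        intro n _
        have h2 : (n : G) ∈ K'.map N.subtype := by rw [h1]; exact n.2
        obtain ⟨k, hk, hkn⟩ := h2
        have : k = n := Subtype.ext hkn
        rwa [← this]
    · rintro x ⟨p, hp, hpr, hx⟩ a
      obtain ⟨k, hk⟩ := h.exists_pow hr hN hNr (x := (x : G)) (g := (a : G)) hp hpr (by simpa using hx) a.2
      exact ⟨k, Subtype.ext hk⟩
  -- all elements of `M` are scalars
  obtain ⟨⟨n, hn⟩, hn1⟩ := N.ne_bot_iff_exists_ne_one.1 hN1
  have hZ : (zpowers n).Normal := by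
    rw [← normalizer_eq_top_iff, eq_top_iff, ← hsup, sup_le_iff]
    have hsub : ∀ L : Subgroup G, (∀ g ∈ L, g * n * g⁻¹ ∈ zpowers n) → L ≤ normalizer (zpowers n : Set G) := by
      intro L hL g hg
      have h1 : ∀ g ∈ L, ∀ k ∈ zpowers n, g * k * g⁻¹ ∈ zpowers n := by
        rintro g hg _ ⟨k, rfl⟩
        show g * n ^ k * g⁻¹ ∈ zpowers n
        rw [← conj_zpow]
        exact zpow_mem (hL g hg) k
      rw [mem_normalizer_iff]
      intro k
      constructor
      · exact h1 g hg k
      · intro hk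
        have := h1 g⁻¹ (inv_mem hg) _ hk
        simpa [mul_assoc] using this
    constructor
    · apply hsub
      intro g hg
      rw [hcomm g hg n hn, mul_inv_cancel_right]
      exact mem_zpowers n
    · apply hsub
      intro g hg
      obtain ⟨k, hk⟩ := hsc ⟨g, hg⟩
      have h1 := hφ ⟨g, hg⟩ ⟨n, hn⟩
      rw [hk] at h1
      have h2 : n ^ k = g * n * g⁻¹ := h1
      rw [← h2]
      exact pow_mem (mem_zpowers n) k
  have hZN : zpowers n ≤ N := by rw [zpowers_le]; exact hn
  rcases hmin _ hZ hZN with h1 | h1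
  · exfalso
    apply hn1
    rw [zpowers_eq_bot] at h1
    exact Subtype.ext h1
  · rw [← h1]; infer_instance

/-- **Solvability** from the supersolvability of the proper sections. -/
theorem isSolvable_of_sections {G : Type u} [Group G] [Finite G]
    (hsub : ∀ H : Subgroup G, H ≠ ⊤ → Cfsg.IsSupersolvable H)
    (hquot : ∀ (N : Subgroup G) [N.Normal], N ≠ ⊥ → Cfsg.IsSupersolvable (G ⧸ N)) : Group.IsSolvable G := by
  by_cases hsimple : ∃ N : Subgroup G, N.Normal ∧ N ≠ ⊥ ∧ N ≠ ⊤
  · obtain ⟨N, hN, h1, h2⟩ := hsimple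
    have i1 : Group.IsSolvable N := SupersolvableBasic.isSolvable (hsub N h2)
    have i2 : Group.IsSolvable (G ⧸ N) := SupersolvableBasic.isSolvable (hquot N h1)
    exact Group.isSolvable_of_ker_le_range N.subtype (QuotientGroup.mk' N) (by
      rw [QuotientGroup.ker_mk', Subgroup.range_subtype])
  · push Not at hsimple
    by_cases h1 : Nat.card G = 1
    · have : Subsingleton G := (Nat.card_eq_one_iff_unique.1 h1).1
      infer_instance
    obtain ⟨p, hp⟩ : ∃ p, p = (Nat.card G).minFac := ⟨_, rfl⟩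
    have hpp : p.Prime := by rw [hp]; exact Nat.minFac_prime h1
    have hpG : p ∣ Nat.card G := by rw [hp]; exact Nat.minFac_dvd _
    haveI := Fact.mk hpp
    have hsolv_of_pGroup : IsPGroup p G → Group.IsSolvable G := by
      intro h2
      have := h2.isNilpotent
      infer_instance
    by_cases hPG : IsPGroup p G
    · exact hsolv_of_pGroup hPG
    exfalso
    have hnc : Cfsg.HasNormalPComplement p G := by
      rw [Cfsg.Agent.S0072.result]
      intro Q hQ hQ1
      have h3 : normalizer (Q : Set G) ≠ ⊤ := by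
        intro h4
        rw [normalizer_eq_top_iff] at h4
        have h5 := hsimple Q h4 hQ1
        rw [h5] at hQ
        exact hPG (hQ.of_equiv Subgroup.topEquiv)
      refine hasNormalPComplement _ rfl (hsub _ h3) p ?_
      intro q hq hqd
      rw [hp]
      exact Nat.minFac_le_of_dvd hq.two_le (hqd.trans (Subgroup.card_subgroup_dvd_card _))
    obtain ⟨P, K, hK, hKP⟩ := hnc
    by_cases hK1 : K = ⊥
    · rw [hK1] at hKP
      have h2 : (P : Subgroup G) = ⊤ := isComplement'_bot_left.1 hKP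
      apply hPG
      have h3 := P.2
      rw [h2] at h3
      exact h3.of_equiv Subgroup.topEquiv
    · have hK2 := hsimple K hK hK1
      rw [hK2] at hKP
      have h2 : (P : Subgroup G) = ⊥ := isComplement'_top_left.1 hKP
      exact P.ne_bot_of_dvd_card hpG h2

/-- **Supersolvability.** -/
theorem main (n : ℕ) : ∀ {G : Type u} [Group G] [Finite G], Nat.card G = n → Cond G →
    Cfsg.IsSupersolvable G := by
  induction n using Nat.strong_induction_on with
  | _ n ih =>
    intro G _ _ hn h
    have hsub : ∀ H : Subgroup G, H ≠ ⊤ → Cfsg.IsSupersolvable H := by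
      intro H hH
      have h1 : Nat.card H < n := by
        rw [← hn]
        exact lt_of_le_of_ne (Subgroup.card_le_card_group H) (fun h2 => hH (Subgroup.eq_top_of_card_eq H h2))
      exact ih _ h1 rfl (h.subgroup H)
    have hquot : ∀ (N : Subgroup G) [N.Normal], N ≠ ⊥ → Cfsg.IsSupersolvable (G ⧸ N) := by
      intro N _ hN
      have h1 : Nat.card (G ⧸ N) < n := by
        have h2 := Subgroup.card_eq_card_quotient_mul_card_subgroup N
        have h3 : 1 < Nat.card N := (Subgroup.one_lt_card_iff_ne_bot N).2 hN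
        have h4 : 0 < Nat.card (G ⧸ N) := Nat.card_pos
        rw [← hn, h2]
        nlinarith
      exact ih _ h1 rfl (h.of_surjective (QuotientGroup.mk' N) (QuotientGroup.mk'_surjective N))
    have hsolv := isSolvable_of_sections hsub hquot
    by_contra hns
    -- a maximal subgroup of non-prime index
    obtain ⟨M, hM, hMi⟩ : ∃ M : Subgroup G, IsCoatom M ∧ ¬ M.index.Prime := by
      by_contra hno
      push Not at hno
      exact hns (Cfsg.Agent.S0579.result hno)
    have hMc : M.normalCore = ⊥ := by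
      by_contra hc
      apply hMi
      have h1 := hquot M.normalCore hc
      have hker : (QuotientGroup.mk' M.normalCore).ker ≤ M := by
        rw [QuotientGroup.ker_mk']; exact M.normalCore_le
      have h2 : (M.map (QuotientGroup.mk' M.normalCore)).index = M.index :=
        Subgroup.index_map_eq M (QuotientGroup.mk'_surjective _) hker
      rw [← h2]
      apply Cfsg.Agent.S0527.result h1
      have h3 : (M.map (QuotientGroup.mk' M.normalCore)).comap (QuotientGroup.mk' M.normalCore) = M :=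
        Subgroup.comap_map_eq_self hker
      constructor
      · intro h4
        rw [h4, Subgroup.comap_top] at h3
        exact hM.1 h3.symm
      · intro K hK
        have h4 : M < K.comap (QuotientGroup.mk' M.normalCore) :=
          h3.symm.trans_lt ((Subgroup.comap_lt_comap_of_surjective (QuotientGroup.mk'_surjective _)).2 hK)
        have h5 := hM.2 _ h4
        have h6 := Subgroup.map_comap_eq_self_of_surjective (QuotientGroup.mk'_surjective M.normalCore) K
        rw [← h6, h5, ← MonoidHom.range_eq_map, MonoidHom.range_eq_top.2 (QuotientGroup.mk'_surjective _)]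
    have hGnt : Nontrivial G := by
      by_contra hnt
      rw [not_nontrivial_iff_subsingleton] at hnt
      exact hns (SupersolvableBasic.of_subsingleton)
    -- a minimal normal subgroup
    obtain ⟨N, hN, hN1, hmin⟩ : ∃ N : Subgroup G, N.Normal ∧ N ≠ ⊥ ∧
        ∀ K : Subgroup G, K.Normal → K ≤ N → K = ⊥ ∨ K = N := by
      obtain ⟨N, hN⟩ := Set.Finite.exists_minimal (Set.toFinite {B : Subgroup G | B.Normal ∧ B ≠ ⊥})
        ⟨⊤, inferInstance, top_ne_bot⟩
      refine ⟨N, hN.1.1, hN.1.2, fun K hK hKN => ?_⟩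
      by_cases hK1 : K = ⊥
      · exact Or.inl hK1
      · exact Or.inr (le_antisymm hKN (hN.2 ⟨hK, hK1⟩ hKN))
    have hcomm := MinimalNormal.comm_of_minimal_normal N hN1 hmin
    obtain ⟨r, hr, hNr⟩ := MinimalNormal.exists_prime_pow_eq_one N hN1 hmin hcomm
    have hcyc := core h hM hMc (hsub M hM.1) hN hN1 hmin hcomm hr hNr
    exact hns (Cfsg.Agent.S0528.result N (hquot N hN1))

end Cfsg.Agent.H270.SSCond
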